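import Mathlib.AlgebraicGeometry.Limits
import Mathlib.AlgebraicGeometry.Morphisms.Affine
import Mathlib.AlgebraicGeometry.Morphisms.Immersion
import Mathlib.AlgebraicGeometry.Morphisms.ClosedImmersion
import Mathlib.RingTheory.Ideal.Operations

/-!
# Schemes in which every finite set of points lies in an affine open

* `IsAF X` : every finite set of points of `X` lies in an affine open;
* `IsAF.exists_le` : the affine open can be chosen inside any open containing the finite set;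
* `IsAF.of_isAffineHom`, `IsAF.of_isOpenImmersion`, `IsAF.of_isImmersion`, `IsAF.of_iso`;
* `IsAF.pullback` : fibre products over an affine scheme;
* `IsAF.sigma` : disjoint unions;
* `IsAF.of_clopen` : a criterion: finite sets lie in opens `W` covered by AF opens `V i`, closed in `W`.
-/

set_option autoImplicit false
universe u v

open CategoryTheory CategoryTheory.Limits AlgebraicGeometry TopologicalSpace

namespace Groth.Agent.Pic13.H932.AF

/-- every finite set of points lies in an affine open -/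
def IsAF (X : Scheme.{u}) : Prop :=
  ∀ F : Finset X, ∃ U : X.Opens, IsAffineOpen U ∧ ∀ x ∈ F, x ∈ U

/-- A finite set of primes in an open set of a spectrum lies in a basic open contained in it. -/
lemma exists_basicOpen {A : Type u} [CommRing A] (s : Finset (PrimeSpectrum A))
    (W : Opens (PrimeSpectrum A)) (h : ∀ x ∈ s, x ∈ W) :
    ∃ f : A, (∀ x ∈ s, x ∈ PrimeSpectrum.basicOpen f) ∧ PrimeSpectrum.basicOpen f ≤ W := by
  classical
  let I := PrimeSpectrum.vanishingIdeal ((W : Set (PrimeSpectrum A))ᶜ)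
  have hcl : IsClosed ((W : Set (PrimeSpectrum A))ᶜ) := W.isOpen.isClosed_compl
  have h1 : ¬ ((I : Set A) ⊆ ⋃ x ∈ (s : Set (PrimeSpectrum A)), (x.asIdeal : Set A)) := by
    intro hsub
    rw [Ideal.subset_union_prime (s := s) (f := fun x : PrimeSpectrum A => x.asIdeal)
      (by exact Classical.choice (by
        by_cases hs : s.Nonempty
        · obtain ⟨a, _⟩ := hs
          exact ⟨a⟩
        · exfalso
          rw [Finset.not_nonempty_iff_eq_empty] at hs
          subst hs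
          have : (0 : A) ∈ (I : Set A) := I.zero_mem
          have := hsub this
          simp at this)) (by exact Classical.choice (by
        by_cases hs : s.Nonempty
        · obtain ⟨a, _⟩ := hs
          exact ⟨a⟩
        · exfalso
          rw [Finset.not_nonempty_iff_eq_empty] at hs
          subst hs
          have : (0 : A) ∈ (I : Set A) := I.zero_mem
          have := hsub this
          simp at this)) (fun x _ _ _ => x.isPrime)] at hsub
    obtain ⟨x, hx, hIx⟩ := hsub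
    have hx' : x ∈ PrimeSpectrum.zeroLocus (I : Set A) := hIx
    rw [PrimeSpectrum.zeroLocus_vanishingIdeal_eq_closure, hcl.closure_eq] at hx'
    exact hx' (h x hx)
  rw [Set.not_subset] at h1
  obtain ⟨f, hf, hf'⟩ := h1
  refine ⟨f, fun x hx hfx => hf' ?_, fun y hy => ?_⟩
  · simp only [Set.mem_iUnion]
    exact ⟨x, hx, hfx⟩
  · by_contra hyW
    exact hy ((PrimeSpectrum.mem_vanishingIdeal _ _).1 hf y hyW)

/-- A finite set of points in an open subset of an affine open. -/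
lemma exists_affine_le_of_affine {X : Scheme.{u}} {U : X.Opens} (hU : IsAffineOpen U)
    (F : Finset X) (hF : ∀ x ∈ F, x ∈ U) (V : X.Opens) (hV : ∀ x ∈ F, x ∈ V) :
    ∃ U' : X.Opens, IsAffineOpen U' ∧ (∀ x ∈ F, x ∈ U') ∧ U' ≤ V ∧ U' ≤ U := by
  classical
  let W : Opens (PrimeSpectrum Γ(X, U)) := hU.fromSpec ⁻¹ᵁ V
  let s : Finset (PrimeSpectrum Γ(X, U)) :=
    F.attach.image (fun x => hU.primeIdealOf ⟨x.1, hF x.1 x.2⟩)
  obtain ⟨f, h1, h2⟩ := exists_basicOpen s W (by
    intro y hy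
    simp only [s, Finset.mem_image] at hy
    obtain ⟨x, -, rfl⟩ := hy
    change hU.fromSpec (hU.primeIdealOf ⟨x.1, hF x.1 x.2⟩) ∈ V
    rw [hU.fromSpec_primeIdealOf]
    exact hV x.1 x.2)
  refine ⟨X.basicOpen f, hU.basicOpen f, fun x hx => ?_, ?_, X.basicOpen_le f⟩
  · have h3 := h1 (hU.primeIdealOf ⟨x, hF x hx⟩) (by
      simp only [s, Finset.mem_image]
      exact ⟨⟨x, hx⟩, Finset.mem_attach _ _, rfl⟩)
    have h4 : hU.primeIdealOf ⟨x, hF x hx⟩ ∈ hU.fromSpec ⁻¹ᵁ X.basicOpen f := by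
      rw [hU.fromSpec_preimage_basicOpen]
      exact h3
    have h5 : hU.fromSpec (hU.primeIdealOf ⟨x, hF x hx⟩) ∈ X.basicOpen f := h4
    rwa [hU.fromSpec_primeIdealOf] at h5
  · rw [← hU.fromSpec_image_basicOpen]
    rintro _ ⟨y, hy, rfl⟩
    exact h2 hy

variable {X Y S : Scheme.{u}}

theorem IsAF.exists_le (h : IsAF X) (F : Finset X) (V : X.Opens) (hV : ∀ x ∈ F, x ∈ V) :
    ∃ U : X.Opens, IsAffineOpen U ∧ (∀ x ∈ F, x ∈ U) ∧ U ≤ V := by
  obtain ⟨U, hU, hF⟩ := h F
  obtain ⟨U', h1, h2, h3, -⟩ := exists_affine_le_of_affine hU F hF V hV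
  exact ⟨U', h1, h2, h3⟩

theorem IsAF.of_isAffine [IsAffine X] : IsAF X := fun _ => ⟨⊤, isAffineOpen_top X, fun _ _ => trivial⟩

theorem IsAF.of_isAffineHom (f : X ⟶ Y) [IsAffineHom f] (h : IsAF Y) : IsAF X := by
  classical
  intro F
  obtain ⟨U, hU, hF⟩ := h (F.image f)
  exact ⟨f ⁻¹ᵁ U, hU.preimage f, fun x hx => hF _ (Finset.mem_image_of_mem _ hx)⟩

theorem IsAF.of_isOpenImmersion (f : X ⟶ Y) [IsOpenImmersion f] (h : IsAF Y) : IsAF X := by
  classical
  intro F
  obtain ⟨U, hU, hF, hle⟩ := h.exists_le (F.image f) f.opensRange (by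
    intro x hx
    obtain ⟨y, -, rfl⟩ := Finset.mem_image.1 hx
    exact ⟨y, rfl⟩)
  refine ⟨f ⁻¹ᵁ U, ?_, fun x hx => hF _ (Finset.mem_image_of_mem _ hx)⟩
  rw [← f.isAffineOpen_iff_of_isOpenImmersion]
  rwa [Scheme.Hom.image_preimage_eq_opensRange_inf, inf_eq_right.2 hle]

theorem IsAF.of_isImmersion (f : X ⟶ Y) [IsImmersion f] (h : IsAF Y) : IsAF X :=
  (h.of_isOpenImmersion f.coborderRange.ι).of_isAffineHom f.liftCoborder

theorem IsAF.of_iso (e : X ≅ Y) (h : IsAF Y) : IsAF X := h.of_isOpenImmersion e.hom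

/-- fibre products over an affine scheme -/
theorem IsAF.pullback [IsAffine S] (f : X ⟶ S) (g : Y ⟶ S) (hX : IsAF X) (hY : IsAF Y) :
    IsAF (pullback f g) := by
  classical
  intro F
  obtain ⟨U, hU, hFU⟩ := hX (F.image (pullback.fst f g))
  obtain ⟨V, hV, hFV⟩ := hY (F.image (pullback.snd f g))
  have : IsAffine U := hU
  have : IsAffine V := hV
  let m : Limits.pullback (U.ι ≫ f) (V.ι ≫ g) ⟶ Limits.pullback f g :=
    pullback.map _ _ _ _ U.ι V.ι (𝟙 S) (by simp) (by simp)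
  have hm : IsOpenImmersion m := inferInstance
  refine ⟨m.opensRange, isAffineOpen_opensRange m, fun x hx => ?_⟩
  change x ∈ Set.range m
  rw [Scheme.Pullback.range_map]
  constructor
  · change pullback.fst f g x ∈ Set.range U.ι
    rw [Scheme.Opens.range_ι]
    exact hFU _ (Finset.mem_image_of_mem _ hx)
  · change pullback.snd f g x ∈ Set.range V.ι
    rw [Scheme.Opens.range_ι]
    exact hFV _ (Finset.mem_image_of_mem _ hx)

/-- Induction step of the clopen criterion. -/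
lemma exists_affine_of_clopen {ι : Type v} (W : X.Opens) (V : ι → X.Opens)
    (hAF : ∀ i, IsAF (V i).toScheme)
    (hcl : ∀ i, ∃ C : Set X, IsClosed C ∧ (V i : Set X) = (W : Set X) ∩ C) (s : Finset ι) :
    ∀ F : Finset X, (∀ x ∈ F, ∃ i ∈ s, x ∈ V i) →
      ∃ U : X.Opens, IsAffineOpen U ∧ (∀ x ∈ F, x ∈ U) ∧ U ≤ W := by
  classical
  induction s using Finset.induction_on with
  | empty =>
    intro F hF
    refine ⟨⊥, isAffineOpen_bot X, fun x hx => ?_, bot_le⟩
    obtain ⟨i, hi, -⟩ := hF x hx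
    exact absurd hi (Finset.notMem_empty _)
  | insert i s his ih =>
    intro F hF
    obtain ⟨C, hC, hVC⟩ := hcl i
    -- points in `V i`
    let G : Finset (V i).toScheme :=
      (F.filter (fun x => x ∈ V i)).attach.image (fun x => ⟨x.1, (Finset.mem_filter.1 x.2).2⟩)
    obtain ⟨U₁, hU₁, hG⟩ := hAF i G
    have hU₁' : IsAffineOpen ((V i).ι ''ᵁ U₁) := hU₁.image_of_isOpenImmersion (V i).ι
    -- the others
    obtain ⟨U₂, hU₂, hF₂, hW₂⟩ := ih (F.filter (fun x => x ∉ V i)) (by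
      intro x hx
      obtain ⟨hx1, hx2⟩ := Finset.mem_filter.1 hx
      obtain ⟨j, hj, hxj⟩ := hF x hx1
      rcases Finset.mem_insert.1 hj with rfl | hj
      · exact absurd hxj hx2
      · exact ⟨j, hj, hxj⟩)
    obtain ⟨U₃, hU₃, hF₃, hle, hle'⟩ := exists_affine_le_of_affine hU₂
      (F.filter (fun x => x ∉ V i)) hF₂ (W ⊓ ⟨Cᶜ, hC.isOpen_compl⟩) (by
        intro x hx
        have hxW : x ∈ W := hW₂ (hF₂ x hx)
        refine ⟨hxW, fun hxC => (Finset.mem_filter.1 hx).2 ?_⟩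
        change x ∈ (V i : Set X)
        rw [hVC]
        exact ⟨hxW, hxC⟩)
    have hVW : V i ≤ W := by
      intro x hx
      have : x ∈ (V i : Set X) := hx
      rw [hVC] at this
      exact this.1
    have himg : (V i).ι ''ᵁ U₁ ≤ V i := by
      rintro _ ⟨y, -, rfl⟩
      exact y.2
    have hdisj : Disjoint ((V i).ι ''ᵁ U₁) U₃ := by
      rw [disjoint_iff_inf_le]
      rintro x ⟨hx1, hx2⟩
      have h1 : x ∈ (V i : Set X) := himg hx1
      rw [hVC] at h1
      exact (hle hx2).2 h1.2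
    refine ⟨(V i).ι ''ᵁ U₁ ⊔ U₃, hU₁'.sup_of_disjoint hU₃ hdisj, fun x hx => ?_,
      sup_le (himg.trans hVW) (hle.trans inf_le_left)⟩
    by_cases hxV : x ∈ V i
    · refine Or.inl ⟨⟨x, hxV⟩, hG _ ?_, rfl⟩
      exact Finset.mem_image.2 ⟨⟨x, Finset.mem_filter.2 ⟨hx, hxV⟩⟩, Finset.mem_attach _ _, rfl⟩
    · exact Or.inr (hF₃ x (Finset.mem_filter.2 ⟨hx, hxV⟩))

/-- **The clopen criterion.**  `X` is AF if every finite set of points lies in an open `W` covered by AF opens which are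
closed in `W`. -/
theorem IsAF.of_clopen (h : ∀ F : Finset X, ∃ (W : X.Opens) (ι : Type v) (V : ι → X.Opens),
      (∀ i, IsAF (V i).toScheme) ∧ (∀ i, ∃ C : Set X, IsClosed C ∧ (V i : Set X) = (W : Set X) ∩ C) ∧
      ∀ x ∈ F, ∃ i, x ∈ V i) : IsAF X := by
  classical
  intro F
  obtain ⟨W, ι, V, hAF, hcl, hF⟩ := h F
  choose i hi using fun x : F => hF x.1 x.2
  obtain ⟨U, hU, hFU, -⟩ := exists_affine_of_clopen W V hAF hcl (F.attach.image i) F
    (fun x hx => ⟨i ⟨x, hx⟩, Finset.mem_image_of_mem _ (Finset.mem_attach _ _), hi ⟨x, hx⟩⟩)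
  exact ⟨U, hU, hFU⟩

/-- Finite sets of points in a common AF open. -/
theorem IsAF.of_forall_exists_opens (h : ∀ F : Finset X, ∃ W : X.Opens, IsAF W.toScheme ∧ ∀ x ∈ F, x ∈ W) :
    IsAF X := by
  refine IsAF.of_clopen (fun F => ?_)
  obtain ⟨W, hW, hF⟩ := h F
  exact ⟨W, PUnit.{1}, fun _ => W, fun _ => hW, fun _ => ⟨Set.univ, isClosed_univ, by simp⟩,
    fun x hx => ⟨⟨⟩, hF x hx⟩⟩

/-- Disjoint unions. -/
theorem IsAF.sigma {ι : Type u} (Z : ι → Scheme.{u}) (h : ∀ i, IsAF (Z i)) : IsAF (∐ Z) := by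
  have hex : ∀ x : (∐ Z : Scheme.{u}), ∃ (i : ι) (y : Z i), Sigma.ι Z i y = x := by
    intro x
    obtain ⟨⟨i, y⟩, rfl⟩ := (sigmaMk Z).surjective x
    exact ⟨i, y, (sigmaMk_mk Z i y).symm⟩
  refine IsAF.of_clopen (fun F => ⟨⊤, ι, fun i => (Sigma.ι Z i).opensRange, fun i => ?_, fun i => ?_,
    fun x _ => ?_⟩)
  · exact (h i).of_iso (Sigma.ι Z i).isoOpensRange.symm
  · refine ⟨Set.range (Sigma.ι Z i), ?_, by simp⟩
    rw [← isOpen_compl_iff]
    have : (Set.range (Sigma.ι Z i))ᶜ =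
        ⋃ j ∈ {j | j ≠ i}, ((Sigma.ι Z j).opensRange : Set (∐ Z : Scheme.{u})) := by
      ext x
      simp only [Set.mem_compl_iff, Set.mem_iUnion]
      constructor
      · intro hx
        obtain ⟨j, y, rfl⟩ := hex x
        refine ⟨j, ?_, ⟨y, rfl⟩⟩
        rintro rfl
        exact hx ⟨y, rfl⟩
      · rintro ⟨j, hj, hx⟩ hx'
        exact (disjoint_iff_inf_le.1 (disjoint_opensRange_sigmaι Z j i hj)) ⟨hx, hx'⟩
    rw [this]
    exact isOpen_biUnion (fun j _ => (Sigma.ι Z j).opensRange.isOpen)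
  · obtain ⟨i, y, hy⟩ := hex x
    exact ⟨i, ⟨y, hy⟩⟩

end Groth.Agent.Pic13.H932.AF
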