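import Groth.Agent.Pic13.H964.Defs

/-!
# Isomorphism invariance of the étale sheafified Picard functor

* `transport`: an étale sheafification for `f₂` gives one for `f₁ ≅ f₂`;
* `representedBy_of_iso`, `good_of_iso`, `good_of_isPullback`.
-/

set_option autoImplicit false
universe w u

open CategoryTheory CategoryTheory.Limits AlgebraicGeometry Opposite

namespace Groth.Agent.Pic13.H932.GoodIso

open Groth.Agent.Ega3A.PicSheaf Groth.Agent.Ega3A.PicLocBase Groth.Agent.Picfga.OverRep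
  Groth.Agent.Grpsch.PicGrp Groth.Agent.Pic13.H964.Defs Groth.Agent.Ega3A.PicDiv
  Groth.Agent.Ega3A.PicEtSh

section Iso

variable {X₁ X₂ S : Scheme.{u}} {f₁ : X₁ ⟶ S} {f₂ : X₂ ⟶ S}

/-- The map `X₁ ×_S T ⟶ X₂ ×_S T`. -/
noncomputable def xm (h : X₁ ⟶ X₂) (hh : h ≫ f₂ = f₁) (T : Over S) :
    PicF.XT f₁ T ⟶ PicF.XT f₂ T :=
  pullback.lift (pullback.fst f₁ T.hom ≫ h) (pullback.snd f₁ T.hom)
    (by rw [Category.assoc, hh, pullback.condition])

lemma xm_fst (h : X₁ ⟶ X₂) (hh : h ≫ f₂ = f₁) (T : Over S) :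
    xm h hh T ≫ pullback.fst f₂ T.hom = pullback.fst f₁ T.hom ≫ h := pullback.lift_fst _ _ _

lemma xm_snd (h : X₁ ⟶ X₂) (hh : h ≫ f₂ = f₁) (T : Over S) :
    xm h hh T ≫ pullback.snd f₂ T.hom = pullback.snd f₁ T.hom := pullback.lift_snd _ _ _

lemma XTmap_xm (h : X₁ ⟶ X₂) (hh : h ≫ f₂ = f₁) {T T' : Over S} (g : T' ⟶ T) :
    PicF.XTmap f₁ g ≫ xm h hh T = xm h hh T' ≫ PicF.XTmap f₂ g := by
  apply pullback.hom_ext
  · rw [Category.assoc, xm_fst, XTmap_fst'_assoc, Category.assoc, XTmap_fst', xm_fst]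
  · rw [Category.assoc, xm_snd, XTmap_snd', Category.assoc, XTmap_snd', ← Category.assoc, xm_snd]

lemma xm_comp_id (a : X₁ ⟶ X₂) (b : X₂ ⟶ X₁) (ha : a ≫ f₂ = f₁) (hb : b ≫ f₁ = f₂)
    (hab : a ≫ b = 𝟙 _) (T : Over S) : xm a ha T ≫ xm b hb T = 𝟙 _ := by
  apply pullback.hom_ext
  · rw [Category.assoc, xm_fst, ← Category.assoc, xm_fst, Category.assoc, hab, Category.comp_id,
      Category.id_comp]
  · rw [Category.assoc, xm_snd, xm_snd, Category.id_comp]

lemma inv_w (e : X₁ ≅ X₂) (he : e.hom ≫ f₂ = f₁) : e.inv ≫ f₁ = f₂ := by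
  rw [← he, e.inv_hom_id_assoc]

lemma xm_XTmap_xm (e : X₁ ≅ X₂) (he : e.hom ≫ f₂ = f₁) {T T' : Over S} (g : T' ⟶ T) :
    xm e.hom he T' ≫ PicF.XTmap f₂ g ≫ xm e.inv (inv_w e he) T = PicF.XTmap f₁ g := by
  rw [← Category.assoc, ← XTmap_xm, Category.assoc, xm_comp_id _ _ _ _ e.hom_inv_id,
    Category.comp_id]

/-- Transport of the étale sheafification along an isomorphism. -/
noncomputable def transport (e : X₁ ≅ X₂) (he : e.hom ≫ f₂ = f₁) (E : PicSh f₂) : PicSh f₁ where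
  G := E.G
  η {T} c := E.η (pull (xm e.inv (inv_w e he) T) c)
  nat {T T'} g c := by
    have h1 : pull (xm e.inv (inv_w e he) T') (pu f₁ g c) =
        pu f₂ g (pull (xm e.inv (inv_w e he) T) c) := by
      rw [pu, pu, ← pull_comp, ← pull_comp, XTmap_xm]
    rw [h1]
    exact E.nat g _
  sheaf := E.sheaf
  locSurj T x := by
    obtain ⟨𝒰, h⟩ := E.locSurj T x
    refine ⟨𝒰, fun i => ?_⟩
    obtain ⟨c, hc⟩ := h i
    refine ⟨pull (xm e.hom he _) c, ?_⟩
    rw [← pull_comp, xm_comp_id _ _ _ _ e.inv_hom_id, pull_id, hc]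
  eq_iff {T c c'} := by
    rw [E.eq_iff]
    constructor
    · rintro ⟨𝒰, h⟩
      refine ⟨𝒰, fun i => ?_⟩
      have h1 := congrArg (pull (xm e.hom he (𝒰.V i))) (h i)
      simp only [pu, ← pull_comp, xm_XTmap_xm] at h1
      exact h1
    · rintro ⟨𝒰, h⟩
      refine ⟨𝒰, fun i => ?_⟩
      have h1 := congrArg (pull (xm e.inv (inv_w e he) (𝒰.V i))) (h i)
      simp only [pu, ← pull_comp, ← XTmap_xm] at h1
      simp only [pu, ← pull_comp]
      exact h1

theorem representedBy_of_iso (e : X₁ ≅ X₂) (he : e.hom ≫ f₂ = f₁) {P : Over S}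
    (h : PicRel.RepresentedBy f₂ P) : PicRel.RepresentedBy f₁ P := by
  obtain ⟨E⟩ := exists_picSh f₂
  obtain ⟨ξ, hξ⟩ := universal_of_representedBy h E
  exact representedBy_of_universal (transport e he E) ξ hξ

theorem good_of_iso (e : X₁ ≅ X₂) (he : e.hom ≫ f₂ = f₁) (h : Good f₂) : Good f₁ := by
  obtain ⟨P, hP, h1⟩ := h
  exact ⟨P, representedBy_of_iso e he hP, h1⟩

end Iso

/-- `Good` is stable under affine base change, with an arbitrary cartesian square. -/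
theorem good_of_isPullback {X' X S' S : Scheme.{u}} {v : X' ⟶ X} {f' : X' ⟶ S'} {f : X ⟶ S}
    {a : S' ⟶ S} [IsAffineHom a] (H : IsPullback v f' f a) (h : Good f) : Good f' :=
  good_of_iso H.isoPullback H.isoPullback_hom_snd (h.baseChange a)

end Groth.Agent.Pic13.H932.GoodIso
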