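import Groth.Agent.Pic13.H932.AF
import Groth.Agent.Grpsch.PtRestrict
import Groth.Agent.S0593

/-!
# The condition AF descends along finite locally free surjective morphisms

`IsAF.of_finLocFree`: `p : U ⟶ Y` finite locally free and surjective, `Y` quasi-separated: if every finite set of points
of `U` lies in an affine open then the same holds for `Y`.
-/

set_option autoImplicit false
universe u

open CategoryTheory CategoryTheory.Limits AlgebraicGeometry TopologicalSpace

namespace Groth.Agent.Pic13.H932.AFDesc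

open Groth.Agent.Pic13.H932.AF Groth.Agent.Grpsch Groth.Agent.Grpsch.InvAffine

variable {U Y : Scheme.{u}} (p : U ⟶ Y)

lemma isPtEquiv_fst_snd : IsPtEquiv (pullback.fst p p) (pullback.snd p p) where
  refl u := by
    obtain ⟨z, h1, h2⟩ := Scheme.Pullback.exists_preimage_pullback u u (f := p) (g := p) rfl
    exact ⟨z, h1, h2⟩
  symm r := by
    obtain ⟨z, h1, h2⟩ := Scheme.Pullback.exists_preimage_pullback (f := p) (g := p)
      (pullback.snd p p r) (pullback.fst p p r) (by
        rw [← Scheme.Hom.comp_apply, ← Scheme.Hom.comp_apply, pullback.condition])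
    exact ⟨z, h1, h2⟩
  trans r r' h := by
    obtain ⟨z, h1, h2⟩ := Scheme.Pullback.exists_preimage_pullback (f := p) (g := p)
      (pullback.fst p p r') (pullback.snd p p r) (by
        rw [← Scheme.Hom.comp_apply, ← Scheme.Hom.comp_apply, pullback.condition, ← pullback.condition,
          Scheme.Hom.comp_apply, Scheme.Hom.comp_apply, ← Scheme.Hom.comp_apply, pullback.condition,
          Scheme.Hom.comp_apply, h])
    exact ⟨z, h1, h2⟩

lemma inv_of_comp (O : Set Y) (r : (pullback p p : Scheme.{u})) (hr : pullback.fst p p r ∈ p ⁻¹' O) :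
    pullback.snd p p r ∈ p ⁻¹' O := by
  have h : p (pullback.fst p p r) = p (pullback.snd p p r) := by
    rw [← Scheme.Hom.comp_apply, ← Scheme.Hom.comp_apply, pullback.condition]
  rw [Set.mem_preimage, ← h]
  exact hr

/-- a saturated affine open containing the preimage of a finite set. -/
lemma exists_saturated [IsFinite p] [Flat p] [LocallyOfFinitePresentation p] (F : Set Y)
    (hF : (p ⁻¹' F).Finite) (V : U.Opens) (hV : IsAffineOpen V) (hFV : p ⁻¹' F ⊆ (V : Set U)) :
    ∃ W : U.Opens, IsAffineOpen W ∧ p ⁻¹' F ⊆ (W : Set U) ∧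
      ∀ r : (pullback p p : Scheme.{u}), pullback.fst p p r ∈ W → pullback.snd p p r ∈ W := by
  have hst := isPtEquiv_fst_snd p
  let W : U.Opens := ⟨core (pullback.fst p p) (pullback.snd p p) (V : Set U),
    isOpen_core (pullback.fst p p).isClosedMap V.isOpen⟩
  have hWV : W ≤ V := core_subset hst (V : Set U)
  have hWinv : ∀ r, pullback.fst p p r ∈ W → pullback.snd p p r ∈ W :=
    core_invariant hst (V : Set U)
  have hW := PtRestrict.preimage_eq_of_inv hst W hWinv
  have hFW : p ⁻¹' F ⊆ (W : Set U) := fun x hx r hr => hFV (inv_of_comp p F r (by rw [hr]; exact hx))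
  let O : Set W.toScheme := W.ι ⁻¹' (p ⁻¹' F)
  have hO : O.Finite := hF.preimage W.ι.isOpenEmbedding.injective.injOn
  let j := PtRestrict.toSpec hV hWV
  obtain ⟨I, hI, hcl⟩ := PtRestrict.exists_ideal_of_isOpenImmersion j
  obtain ⟨h, hh, haff, hOh, hinv, -⟩ := exists_invariant_basicOpen ((pullback.fst p p) ∣_ W)
    (PtRestrict.tRes (pullback.fst p p) (pullback.snd p p) W hW)
    (PtRestrict.isPtEquiv_res hst W hW) j I hI hcl
    Set.univ isClosed_univ (fun _ _ => trivial) O hO
    (PtRestrict.preimage_inv W hW _ (inv_of_comp p F))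
    (Set.subset_univ _) (Or.inr inferInstance)
  refine ⟨W.ι ''ᵁ (j ⁻¹ᵁ PrimeSpectrum.basicOpen h), haff.image_of_isOpenImmersion W.ι, ?_, ?_⟩
  · exact fun x hx => ⟨⟨x, hFW hx⟩, hOh _ hx, rfl⟩
  · exact PtRestrict.image_inv W hW _ (fun r hr => hinv r trivial hr)

/-- **AF descends along finite locally free surjective morphisms.** -/
theorem isAF_of_finLocFree [IsFinite p] [Flat p] [LocallyOfFinitePresentation p] [Surjective p]
    [QuasiSeparatedSpace Y] (h : IsAF U) : IsAF Y := by
  classical
  intro F
  have hfin : (p ⁻¹' (F : Set Y)).Finite := by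
    rw [← Set.biUnion_preimage_singleton]
    exact F.finite_toSet.biUnion fun x _ => p.finite_preimage_singleton x
  obtain ⟨V, hV, hFV⟩ := h hfin.toFinset
  obtain ⟨W, hW, hFW, hinv⟩ := exists_saturated p (F : Set Y) hfin V hV
    (fun x hx => hFV x (hfin.mem_toFinset.2 hx))
  let D : Y.Opens := ⟨p '' (W : Set U), p.isOpenMap _ W.isOpen⟩
  have hpre : p ⁻¹ᵁ D = W := by
    ext x
    constructor
    · rintro ⟨y, hy, hxy⟩
      obtain ⟨z, rfl, rfl⟩ := Scheme.Pullback.exists_preimage_pullback y x (f := p) (g := p) hxy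
      exact hinv z hy
    · intro hx
      exact ⟨x, hx, rfl⟩
  refine ⟨D, ?_, fun x hx => ?_⟩
  · have h1 : IsAffine (p ⁻¹ᵁ D).toScheme := by
      rw [hpre]
      exact hW
    have h2 : Surjective (p ∣_ D) :=
      MorphismProperty.of_isPullback (P := @Surjective) (isPullback_morphismRestrict p D).flip ‹_›
    have h3 : CompactSpace D.toScheme := by
      have : CompactSpace (p ⁻¹ᵁ D).toScheme := inferInstance
      exact (p ∣_ D).surjective.compactSpace (p ∣_ D).continuous
    have h4 : QuasiSeparatedSpace D.toScheme := QuasiSeparatedSpace.of_isOpenEmbedding D.ι.isOpenEmbedding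
    exact S0593.isAffine_of_isFinite (p ∣_ D)
  · obtain ⟨y, rfl⟩ := p.surjective x
    exact ⟨y, hFW hx, rfl⟩

end Groth.Agent.Pic13.H932.AFDesc
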