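import Groth.Agent.Pic13.H932.AF
import Groth.Agent.Ega2.FiniteSet
import Groth.Agent.Ega3B.SerreTwist

/-!
# Finite sets of points of quasi-projective schemes over an affine base

* `isAF_of_isAmple`, `isAF_projSpaceOver`, `isAF_of_immersion`.
-/

set_option autoImplicit false
universe u

open CategoryTheory CategoryTheory.Limits AlgebraicGeometry TopologicalSpace

namespace Groth.Agent.Pic13.H932.AFProj

open Groth.Agent.Pic13.H932.AF

theorem isAF_of_isAmple {X : Scheme.{u}} [CompactSpace X] [X.IsSeparated] {L : X.Modules}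
    (hL : CohB1.IsAmple L) : IsAF X := by
  intro F
  obtain ⟨n, s, h1, -, h3⟩ := Ega2.FiniteSet.exists_affine_genLocus_of_finite hL (F : Set X)
    F.finite_toSet ⊤ (fun _ _ => trivial)
  exact ⟨_, h3, fun x hx => h1 hx⟩

theorem isAF_projSpaceOver (m : ℕ) (S : Scheme.{u}) [IsAffine S] : IsAF (CohB1.ProjSpaceOver m S) := by
  have hp : IsProper (CohB1.ProjSpaceOver.toBase m S) := Ega3B.ProjProper.isProper_toBase m S
  have h1 : CompactSpace (CohB1.ProjSpaceOver m S) :=
    QuasiCompact.compactSpace_of_compactSpace (CohB1.ProjSpaceOver.toBase m S)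
  have h2 : (CohB1.ProjSpaceOver m S).IsSeparated := by
    rw [Scheme.isSeparated_iff, ← terminal.comp_from (CohB1.ProjSpaceOver.toBase m S)]
    infer_instance
  exact isAF_of_isAmple (Ega3B.SerreTwist.isAmple_lineOne m (𝟙 (CohB1.ProjSpaceOver m S)))

/-- quasi-projective schemes over an affine scheme are AF -/
theorem isAF_of_immersion {X S : Scheme.{u}} [IsAffine S] (m : ℕ) (e : X ⟶ CohB1.ProjSpaceOver m S)
    [IsImmersion e] : IsAF X := (isAF_projSpaceOver m S).of_isImmersion e

end Groth.Agent.Pic13.H932.AFProj
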