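import Groth.Agent.Pic13.H932.PicAF
import Groth.Agent.Pic13.H964.Defs
import Mathlib.AlgebraicGeometry.Geometrically.Integral

/-!
# The base case of the generic representability of the Picard functor

`good_base`, `genGood_base`: `X` closed in `P^n_S`, flat with geometrically integral fibres over an affine Noetherian `S`.
-/

set_option autoImplicit false
universe u

open CategoryTheory CategoryTheory.Limits AlgebraicGeometry

namespace Groth.Agent.Pic13.H932.Base

open Groth.Agent.Ega3A.PicGood Groth.Agent.Pic13.H964.Defs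

theorem gInt_of_geometricallyIntegral {X S : Scheme.{u}} (f : X ⟶ S) [GeometricallyIntegral f] :
    GInt f := fun Ω _ _ s =>
  GeometricallyIntegral.geometrically_isIntegral (f := f) s (pullback.fst f s) (pullback.snd f s)
    (IsPullback.of_hasPullback f s)

theorem good_base {X S : Scheme.{u}} (f : X ⟶ S) (n : ℕ) (i : X ⟶ CohB1.ProjSpaceOver n S) [IsAffine S]
    [IsNoetherian S] [IsClosedImmersion i] [Flat f] [GeometricallyIntegral f]
    (hi : i ≫ CohB1.ProjSpaceOver.toBase n S = f) : Good f := by
  subst hi
  obtain ⟨P, h1, h2, h3, h4⟩ := PicAF.exists_representedBy_af n i (gInt_of_geometricallyIntegral _)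
  exact ⟨P, h1, h2, h3, h4⟩

theorem genGood_of_good {X S : Scheme.{u}} (f : X ⟶ S) [IsAffine S] [Nonempty S] (h : Good f) :
    GenGood f := by
  have : IsAffineHom (⊤ : S.Opens).ι := (inferInstance : IsAffineHom (Scheme.topIso S).hom)
  exact ⟨⊤, Set.univ_nonempty, h.baseChange _⟩

theorem genGood_base {X S : Scheme.{u}} (f : X ⟶ S) (n : ℕ) (i : X ⟶ CohB1.ProjSpaceOver n S)
    [IsAffine S] [IsNoetherian S] [Nonempty S] [IsClosedImmersion i] [Flat f]
    [GeometricallyIntegral f] (hi : i ≫ CohB1.ProjSpaceOver.toBase n S = f) : GenGood f :=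
  genGood_of_good f (good_base f n i hi)

end Groth.Agent.Pic13.H932.Base
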