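import Groth.Agent.Pic13.H955.UnionPatch
import Mathlib.AlgebraicGeometry.Limits
import Mathlib.AlgebraicGeometry.Morphisms.ClosedImmersion

/-!
# The rule `coprod` follows from the rules `iso`, `empty` and `sq`

`X ⨿ Y` is the union of the closed subschemes `X` and `Y` with empty intersection.
-/

set_option autoImplicit false
universe u

open CategoryTheory CategoryTheory.Limits AlgebraicGeometry TopologicalSpace

namespace Groth.Agent.Pic13.H932.CoprodRule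

open Groth.Agent.Pic13.H17.Patch

variable (X Y : Scheme.{u})

lemma isClosed_range_inl : IsClosed (Set.range (coprod.inl : X ⟶ X ⨿ Y)) := by
  have h := (isCompl_range_inl_inr X Y).compl_eq
  rw [← isOpen_compl_iff, h]
  exact (coprod.inr : Y ⟶ X ⨿ Y).isOpenEmbedding.isOpen_range

lemma isClosed_range_inr : IsClosed (Set.range (coprod.inr : Y ⟶ X ⨿ Y)) := by
  have h := (isCompl_range_inl_inr X Y).symm.compl_eq
  rw [← isOpen_compl_iff, h]
  exact (coprod.inl : X ⟶ X ⨿ Y).isOpenEmbedding.isOpen_range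

instance : IsClosedImmersion (coprod.inl : X ⟶ X ⨿ Y) :=
  .of_isPreimmersion _ (isClosed_range_inl X Y)

instance : IsClosedImmersion (coprod.inr : Y ⟶ X ⨿ Y) :=
  .of_isPreimmersion _ (isClosed_range_inr X Y)

variable {X Y}

lemma eq_zero_of_app (U : (X ⨿ Y : Scheme.{u}).Opens) (a : Γ(X ⨿ Y, U))
    (h1 : (coprod.inl : X ⟶ X ⨿ Y).app U a = 0) (h2 : (coprod.inr : Y ⟶ X ⨿ Y).app U a = 0) :
    a = 0 := by
  apply TopCat.Presheaf.section_ext (X ⨿ Y : Scheme.{u}).sheaf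
  intro z hz
  have hz' : z ∈ Set.range (coprod.inl : X ⟶ X ⨿ Y) ∪ Set.range (coprod.inr : Y ⟶ X ⨿ Y) := by
    rw [(isCompl_range_inl_inr X Y).sup_eq_top.trans rfl |> (fun h => (h : _ ∪ _ = Set.univ))]
    trivial
  have key : ∀ {W : Scheme.{u}} (j : W ⟶ X ⨿ Y) [IsOpenImmersion j], j.app U a = 0 →
      ∀ w : W, ∀ hw : j w ∈ U, (X ⨿ Y : Scheme.{u}).presheaf.germ U (j w) hw a =
        (X ⨿ Y : Scheme.{u}).presheaf.germ U (j w) hw 0 := by
    intro W j _ hj w hw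
    apply (ConcreteCategory.bijective_of_isIso (j.stalkMap w)).1
    rw [Scheme.Hom.germ_stalkMap_apply, Scheme.Hom.germ_stalkMap_apply, hj, map_zero, map_zero,
      map_zero]
  rcases hz' with ⟨w, rfl⟩ | ⟨w, rfl⟩
  · exact key _ h1 w hz
  · exact key _ h2 w hz

lemma inf_ker : (coprod.inl : X ⟶ X ⨿ Y).ker ⊓ (coprod.inr : Y ⟶ X ⨿ Y).ker = ⊥ := by
  ext U : 2
  rw [Scheme.IdealSheafData.ideal_inf, Scheme.IdealSheafData.ideal_bot]
  rw [Pi.inf_apply, Pi.bot_apply, eq_bot_iff]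
  rintro a ⟨h1, h2⟩
  rw [Submodule.mem_bot]
  have h1 : a ∈ (coprod.inl : X ⟶ X ⨿ Y).ker.ideal U := h1
  have h2 : a ∈ (coprod.inr : Y ⟶ X ⨿ Y).ker.ideal U := h2
  rw [Scheme.Hom.ker_apply] at h1 h2
  exact eq_zero_of_app _ a h1 h2

/-- the rule `coprod`. -/
theorem coprod_of (P : ∀ {Z S : Scheme.{u}}, (Z ⟶ S) → Prop) {X Y S : Scheme.{u}} (f : X ⟶ S)
    (g : Y ⟶ S)
    (iso : ∀ {Z Z' : Scheme.{u}} (e : Z' ⟶ Z) (f : Z ⟶ S) [IsIso e], P f → P (e ≫ f))
    (empty : ∀ {Z : Scheme.{u}} (f : Z ⟶ S) [IsEmpty Z], P f)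
    (sq : ∀ (b : (coprod.inl : X ⟶ X ⨿ Y).ker.subscheme ⟶ X ⨿ Y)
      (I : (X ⨿ Y : Scheme.{u}).IdealSheafData) [IsClosedImmersion b], IsPatch b I →
      P (I.subschemeι ≫ coprod.desc f g) → P ((I.comap b).subschemeι ≫ b ≫ coprod.desc f g) →
      P (b ≫ coprod.desc f g) → P (coprod.desc f g))
    (hf : P f) (hg : P g) : P (coprod.desc f g) := by
  have hX : (coprod.inl : X ⟶ X ⨿ Y).ker.subschemeι =
      inv (coprod.inl : X ⟶ X ⨿ Y).toImage ≫ coprod.inl := by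
    rw [IsIso.eq_inv_comp]
    exact (coprod.inl : X ⟶ X ⨿ Y).toImage_imageι
  have hY : (coprod.inr : Y ⟶ X ⨿ Y).ker.subschemeι =
      inv (coprod.inr : Y ⟶ X ⨿ Y).toImage ≫ coprod.inr := by
    rw [IsIso.eq_inv_comp]
    exact (coprod.inr : Y ⟶ X ⨿ Y).toImage_imageι
  have he : IsEmpty ((coprod.inr : Y ⟶ X ⨿ Y).ker.comap
      (coprod.inl : X ⟶ X ⨿ Y).ker.subschemeι).subscheme := by
    have h0 : IsEmpty (pullback (coprod.inl : X ⟶ X ⨿ Y).ker.subschemeι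
        (coprod.inr : Y ⟶ X ⨿ Y).ker.subschemeι : Scheme.{u}) := by
      refine ⟨fun t => ?_⟩
      have hw : (pullback.fst (coprod.inl : X ⟶ X ⨿ Y).ker.subschemeι
          (coprod.inr : Y ⟶ X ⨿ Y).ker.subschemeι ≫ inv (coprod.inl : X ⟶ X ⨿ Y).toImage) ≫
            coprod.inl = (pullback.snd (coprod.inl : X ⟶ X ⨿ Y).ker.subschemeι
          (coprod.inr : Y ⟶ X ⨿ Y).ker.subschemeι ≫ inv (coprod.inr : Y ⟶ X ⨿ Y).toImage) ≫
            coprod.inr := by
        rw [Category.assoc, Category.assoc, ← hX, ← hY, pullback.condition]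
      have h1 := congrArg (fun k => k t) hw
      simp only [Scheme.Hom.comp_apply] at h1
      exact inl_ne_inr _ _ _ _ h1
    exact Function.isEmpty (Scheme.IdealSheafData.comapIso _ _).hom
  refine sq _ (coprod.inr : Y ⟶ X ⨿ Y).ker (H955.UnionPatch.isPatch_union _ _ inf_ker) ?_ ?_ ?_
  · rw [hY, Category.assoc, coprod.inr_desc]
    exact iso _ _ hg
  · exact empty _
  · rw [hX, Category.assoc, coprod.inl_desc]
    exact iso _ _ hf

end Groth.Agent.Pic13.H932.CoprodRule
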