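import Groth.Agent.Pic13.H932.AFDesc
import Groth.Agent.Pic13.H932.GoodIso
import Groth.Agent.Pic13.H955.FinDesc
import Groth.Agent.Pic13.H943.CF
import Groth.Agent.FlatB.FppfDom

/-!
# The rule `ext` for the generic representability of the Picard functor

`S' ⟶ S` finite flat surjective, `S`, `S'` affine Noetherian integral: if the Picard functor of `X ×_S S'` is
generically representable (by a separated scheme, locally of finite type and AF) then so is the one of `X`, given that
the étale sheafification `E.G` of the Picard functor of `X` over a cohomologically flat locus is a sheaf for finite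
locally free surjective morphisms.
-/

set_option autoImplicit false
universe w u

open CategoryTheory CategoryTheory.Limits AlgebraicGeometry Opposite TopologicalSpace

namespace Groth.Agent.Pic13.H932.ExtGlue

open Groth.Agent.Ega3A.PicSheaf Groth.Agent.Ega3A.PicLocBase Groth.Agent.Picfga.OverRep
  Groth.Agent.Pic13.H964.Defs Groth.Agent.Pic13.H955 Groth.Agent.Pic13.H932.GoodIso
  Groth.Agent.Pic13.H943

/-- If `g` is finite and surjective with irreducible source, every nonempty open of the source contains the preimage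
of a nonempty open of the target. -/
lemma exists_open_preimage_le {S' S : Scheme.{u}} (g : S' ⟶ S) [IsFinite g] [Surjective g]
    [IrreducibleSpace S'] [IrreducibleSpace S] (V' : S'.Opens) (hV' : (V' : Set S').Nonempty) :
    ∃ V : S.Opens, (V : Set S).Nonempty ∧ g ⁻¹ᵁ V ≤ V' := by
  let Z : Set S := g '' (V' : Set S')ᶜ
  have hZ : IsClosed Z := g.isClosedMap _ V'.isOpen.isClosed_compl
  refine ⟨⟨Zᶜ, hZ.isOpen_compl⟩, ?_, fun x hx => ?_⟩
  · refine ⟨g (genericPoint S'), ?_⟩
    rintro ⟨x, hx, hxg⟩
    have h1 : genericPoint S' ⤳ x := genericPoint_specializes x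
    have hd := g.isDiscrete_preimage_singleton (g (genericPoint S'))
    have h2 : genericPoint S' = x := by
      have h3 : (⟨genericPoint S', rfl⟩ : g ⁻¹' {g (genericPoint S')}) = ⟨x, hxg⟩ := by
        have := hd.to_subtype
        exact (Topology.IsInducing.subtypeVal.specializes_iff.1 h1).eq
      exact congrArg Subtype.val h3
    apply hx
    rw [← h2]
    exact ((genericPoint_spec S').mem_open_set_iff V'.isOpen).2 (by simpa using hV')
  · by_contra hxV
    exact hx ⟨x, hxV, rfl⟩

/-- Every nonempty open contains a nonempty affine open. -/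
lemma exists_affine_le {S : Scheme.{u}} (V : S.Opens) (hV : (V : Set S).Nonempty) :
    ∃ W : S.Opens, (W : Set S).Nonempty ∧ IsAffineOpen W ∧ W ≤ V := by
  obtain ⟨x, hx⟩ := hV
  obtain ⟨W, hW, hxW, hWV⟩ := exists_isAffineOpen_mem_and_subset (U := V) hx
  exact ⟨W, ⟨x, hxW⟩, hW, hWV⟩

lemma isFinLocFree_of {X Y : Scheme.{u}} (q : X ⟶ Y) [IsFinite q] [Flat q] [IsLocallyNoetherian Y] :
    Mor2.IsFinLocFree q :=
  ⟨inferInstance, inferInstance, FlatB.FppfDom.locallyOfFinitePresentation_of_isLocallyNoetherian q⟩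

/-- Descent of `Good` along a finite locally free surjective morphism. -/
theorem good_of_flf {X S S' : Scheme.{u}} (f : X ⟶ S) (q : S' ⟶ S) [IsAffine S]
    (hq : Mor2.IsFinLocFree q) [Surjective q]
    (hE : ∀ E : PicSh f, FinDesc.IsFlfSheaf E.G) (h : Good (pullback.snd f q)) : Good f := by
  obtain ⟨E⟩ := exists_picSh f
  obtain ⟨P', hP', hs, hl, hAF⟩ := h
  obtain ⟨ξ, hξ⟩ := universal_of_representedBy hP' (restrict q E)
  obtain ⟨P, η, p, hη, -, hpb⟩ := FinDesc.exists_univ q E.G P' ξ hξ hq ‹_› (hE E)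
    (fun s hs => by
      obtain ⟨V, hV, h⟩ := hAF hs.toFinset
      exact ⟨V, hV, fun x hx => h x (hs.mem_toFinset.2 hx)⟩)
  obtain ⟨k1, k2⟩ := FinDesc.props (P := P) (p := p) q P' hq ‹_› hpb
  have hs' : IsSeparated P.hom := k1 hs
  refine ⟨P, representedBy_of_universal E η hη, hs', k2 hl, ?_⟩
  obtain ⟨i1, i2, i3⟩ := hq
  have j1 : IsFinite p.left := MorphismProperty.of_isPullback hpb.flip i1
  have j2 : Flat p.left := MorphismProperty.of_isPullback hpb.flip i2
  have j3 : LocallyOfFinitePresentation p.left := MorphismProperty.of_isPullback hpb.flip i3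
  have j4 : Surjective p.left :=
    MorphismProperty.of_isPullback (P := @Surjective) hpb.flip ‹Surjective q›
  have j5 : QuasiSeparatedSpace P.left := quasiSeparatedSpace_of_quasiSeparated P.hom
  exact AFDesc.isAF_of_finLocFree p.left hAF

/-- **The rule `ext`**. -/
theorem genGood_ext {X S S' : Scheme.{u}} (f : X ⟶ S) (g : S' ⟶ S) [IsAffine S] [IsNoetherian S]
    [IsIntegral S] [IsAffine S'] [IsIntegral S'] [IsProper f] [IsFinite g]
    [Flat g] [Surjective g]
    (hcf : ∃ V : S.Opens, (V : Set S).Nonempty ∧ ∀ V' : S.Opens, V' ≤ V → IsAffineOpen V' →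
      CF (pullback.snd f V'.ι))
    (hSHF : ∀ {Y T : Scheme.{u}} (h : Y ⟶ T) [IsProper h] [IsAffine T] [IsNoetherian T], CF h →
      ∀ E : PicSh h, FinDesc.IsFlfSheaf E.G)
    (h : GenGood (pullback.snd f g)) : GenGood f := by
  obtain ⟨V', hV', hgood⟩ := h
  obtain ⟨V₁, hV₁, hcf⟩ := hcf
  obtain ⟨V₂, hV₂, hle⟩ := exists_open_preimage_le g V' hV'
  have hne : ((V₁ ⊓ V₂ : S.Opens) : Set S).Nonempty :=
    nonempty_preirreducible_inter V₁.isOpen V₂.isOpen hV₁ hV₂
  obtain ⟨V, hV, hVa, hVle⟩ := exists_affine_le (V₁ ⊓ V₂) hne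
  have hle' : g ⁻¹ᵁ V ≤ V' := (Scheme.Hom.preimage_mono g (hVle.trans inf_le_right)).trans hle
  refine ⟨V, hV, ?_⟩
  have hVa' : IsAffine V.toScheme := hVa
  have hNV : IsNoetherian V.toScheme := { }
  let q : (g ⁻¹ᵁ V).toScheme ⟶ V.toScheme := g ∣_ V
  have hq1 : IsFinite q := MorphismProperty.of_isPullback (isPullback_morphismRestrict g V).flip ‹_›
  have hq2 : Flat q := MorphismProperty.of_isPullback (isPullback_morphismRestrict g V).flip ‹_›
  have hq3 : Surjective q :=
    MorphismProperty.of_isPullback (P := @Surjective) (isPullback_morphismRestrict g V).flip ‹_›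
  refine good_of_flf (pullback.snd f V.ι) q (isFinLocFree_of q)
    (hSHF _ (hcf V (hVle.trans inf_le_left) hVa)) ?_
  -- comparison of the base changes
  have hga : IsAffine (g ⁻¹ᵁ V).toScheme := hVa.preimage g
  let a : (g ⁻¹ᵁ V).toScheme ⟶ V'.toScheme := S'.homOfLE hle'
  have hV's : V'.toScheme.IsSeparated := by
    rw [Scheme.isSeparated_iff, ← terminal.comp_from V'.ι]
    infer_instance
  have haff : IsAffineHom a := S0593.isAffineHom_of_isSeparated a
  have H1 := ((IsPullback.of_hasPullback (pullback.snd (pullback.snd f g) V'.ι) a).paste_horiz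
    (IsPullback.of_hasPullback (pullback.snd f g) V'.ι)).paste_horiz
    (IsPullback.of_hasPullback f g)
  have H2 := (IsPullback.of_hasPullback (pullback.snd f V.ι) q).paste_horiz
    (IsPullback.of_hasPullback f V.ι)
  have hw : (a ≫ V'.ι) ≫ g = q ≫ V.ι := by
    rw [morphismRestrict_ι, Scheme.homOfLE_ι]
  rw [hw] at H1
  exact good_of_iso (H2.isoIsPullback _ _ H1) (H2.isoIsPullback_hom_snd _ _ H1) (hgood.baseChange a)

end Groth.Agent.Pic13.H932.ExtGlue
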