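import Groth.Agent.Pic13.H932.ExtGlue
import Groth.Agent.Pic13.H932.Base
import Groth.Agent.Pic13.H595.Geo

/-!
# The rules `iso`, `shrink`, `empty` and `base` for the generic representability of the Picard functor
-/

set_option autoImplicit false
universe w u

open CategoryTheory CategoryTheory.Limits AlgebraicGeometry Opposite TopologicalSpace

namespace Groth.Agent.Pic13.H932.GenRules

open Groth.Agent.Ega3A.PicSheaf Groth.Agent.Ega3A.PicLocBase Groth.Agent.Picfga.OverRep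
  Groth.Agent.Pic13.H964.Defs Groth.Agent.Pic13.H955 Groth.Agent.Pic13.H932.GoodIso
  Groth.Agent.Pic13.H943 Groth.Agent.Grpsch.PicGrp Groth.Agent.Ega3A.PicEtSh

/-- Transitivity of base change for `Good`. -/
theorem good_comp {X X₁ X₂ T₁ T₂ S : Scheme.{u}} {f : X ⟶ S} {v₁ : X₁ ⟶ X} {f₁ : X₁ ⟶ T₁} {t₁ : T₁ ⟶ S}
    (H₁ : IsPullback v₁ f₁ f t₁) {v₂ : X₂ ⟶ X} {f₂ : X₂ ⟶ T₂} {t₂ : T₂ ⟶ S}
    (H₂ : IsPullback v₂ f₂ f t₂) (a : T₂ ⟶ T₁) [IsAffineHom a] (ha : a ≫ t₁ = t₂) (h : Good f₁) :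
    Good f₂ := by
  have hw : v₂ ≫ f = (f₂ ≫ a) ≫ t₁ := by rw [Category.assoc, ha, H₂.w]
  have H : IsPullback (H₁.lift v₂ (f₂ ≫ a) hw) f₂ f₁ a := by
    refine IsPullback.of_right (t := H₁) ?_ (H₁.lift_snd _ _ _)
    rw [H₁.lift_fst, ha]
    exact H₂
  exact good_of_isPullback H h

/-- `Good` over a smaller affine open. -/
theorem good_of_le {X S : Scheme.{u}} [S.IsSeparated] (f : X ⟶ S) {V W : S.Opens} (hW : W ≤ V)
    (hWa : IsAffineOpen W) (h : Good (pullback.snd f V.ι)) : Good (pullback.snd f W.ι) := by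
  have h1 : IsAffine W.toScheme := hWa
  have h2 : V.toScheme.IsSeparated := by
    rw [Scheme.isSeparated_iff, ← terminal.comp_from V.ι]
    infer_instance
  have h3 : IsAffineHom (S.homOfLE hW) := S0593.isAffineHom_of_isSeparated _
  exact good_comp (IsPullback.of_hasPullback f V.ι) (IsPullback.of_hasPullback f W.ι)
    (S.homOfLE hW) (S.homOfLE_ι hW) h

/-- Several `GenGood` morphisms are `Good` over a common nonempty affine open. -/
theorem exists_common {X₁ X₂ S : Scheme.{u}} [S.IsSeparated] [IrreducibleSpace S] (f₁ : X₁ ⟶ S)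
    (f₂ : X₂ ⟶ S) (h₁ : GenGood f₁) (h₂ : GenGood f₂) :
    ∃ V : S.Opens, (V : Set S).Nonempty ∧ ∀ W : S.Opens, W ≤ V → IsAffineOpen W →
      Good (pullback.snd f₁ W.ι) ∧ Good (pullback.snd f₂ W.ι) := by
  obtain ⟨V₁, hV₁, h₁⟩ := h₁
  obtain ⟨V₂, hV₂, h₂⟩ := h₂
  refine ⟨V₁ ⊓ V₂, nonempty_preirreducible_inter V₁.isOpen V₂.isOpen hV₁ hV₂, fun W hW hWa => ?_⟩
  exact ⟨good_of_le f₁ (hW.trans inf_le_left) hWa h₁, good_of_le f₂ (hW.trans inf_le_right) hWa h₂⟩

/-- The rule `iso`. -/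
theorem genGood_iso {X X' S : Scheme.{u}} (e : X' ⟶ X) (f : X ⟶ S) [IsIso e]
    (h : GenGood (e ≫ f)) : GenGood f := by
  obtain ⟨V, hV, h⟩ := h
  refine ⟨V, hV, ?_⟩
  have H : IsPullback (pullback.fst (e ≫ f) V.ι ≫ e) (pullback.snd (e ≫ f) V.ι) f V.ι :=
    (IsPullback.of_hasPullback (e ≫ f) V.ι).of_iso (Iso.refl _) (asIso e) (Iso.refl _) (Iso.refl _)
      (by simp) (by simp) (by simp) (by simp)
  exact good_comp H (IsPullback.of_hasPullback f V.ι) (𝟙 _) (Category.id_comp _) h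

/-- The rule `shrink`. -/
theorem genGood_shrink {X S : Scheme.{u}} (f : X ⟶ S) (V : S.Opens)
    (h : GenGood (pullback.snd f V.ι)) : GenGood f := by
  obtain ⟨V', hV', h⟩ := h
  refine ⟨V.ι ''ᵁ V', ?_, ?_⟩
  · obtain ⟨x, hx⟩ := hV'
    exact ⟨V.ι x, ⟨x, hx, rfl⟩⟩
  have H := (IsPullback.of_hasPullback (pullback.snd f V.ι) V'.ι).paste_horiz
    (IsPullback.of_hasPullback f V.ι)
  have hw : (V.ι.isoImage V').inv ≫ V'.ι ≫ V.ι = (V.ι ''ᵁ V').ι := by
    rw [Iso.inv_comp_eq]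
    exact (V.ι.isoImage_hom_ι V').symm
  exact good_comp H (IsPullback.of_hasPullback f (V.ι ''ᵁ V').ι) (V.ι.isoImage V').inv hw h

/-- modules on the empty scheme -/
theorem isZero_of_isEmpty {X : Scheme.{u}} [IsEmpty X] (M : X.Modules) : Limits.IsZero M := by
  rw [Limits.IsZero.iff_id_eq_zero]
  apply Scheme.Modules.hom_ext
  intro U
  ext m
  have h : ∀ s t : Γ(M, U), s = t := by
    intro s t
    refine TopCat.Sheaf.eq_of_locally_eq' ⟨_, M.isSheaf⟩ (fun i : PEmpty.{u+1} => i.elim) U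
      (fun i : PEmpty.{u+1} => i.elim) ?_ _ _ (fun i : PEmpty.{u+1} => i.elim)
    intro x
    exact isEmptyElim x
  exact h _ _

theorem pic_subsingleton_of_isEmpty {X : Scheme.{u}} [IsEmpty X] : Subsingleton (Pic X) := by
  refine ⟨fun a b => ?_⟩
  obtain ⟨L, hL, rfl⟩ := exists_mk a
  obtain ⟨M, hM, rfl⟩ := exists_mk b
  exact (mk_eq_iff hL hM).2 ⟨(isZero_of_isEmpty L).iso (isZero_of_isEmpty M)⟩

/-- The empty scheme has the trivial Picard functor. -/
theorem good_of_isEmpty {X S : Scheme.{u}} (f : X ⟶ S) [IsAffine S] [IsEmpty X] : Good f := by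
  obtain ⟨E⟩ := exists_picSh f
  have hsub : ∀ T : Over S, Subsingleton (Pic (PicF.XT f T)) := by
    intro T
    have : IsEmpty (PicF.XT f T) := Function.isEmpty (pullback.fst f T.hom)
    exact pic_subsingleton_of_isEmpty
  have hG : ∀ (T : Over S) (x y : E.G.obj (op T)), x = y := by
    have h1 : ∀ (T : Over S) (x : E.G.obj (op T)), x = E.η 1 := by
      intro T x
      obtain ⟨𝒰, h𝒰⟩ := E.locSurj T x
      refine (((isEtSheaf_iff _).mp E.sheaf).ext_cover T 𝒰 _ _ ?_)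
      intro i
      obtain ⟨c, hc⟩ := h𝒰 i
      rw [← hc, ← E.nat]
      have := hsub (𝒰.V i)
      rw [Subsingleton.elim c (Groth.Agent.Ega3A.PicDiv.pu f (𝒰.j i) 1)]
    intro T x y
    rw [h1 T x, h1 T y]
  refine ⟨Over.mk (𝟙 S), representedBy_of_universal E (E.η 1) (fun T x => ?_), ?_, ?_, ?_⟩
  · exact ⟨Over.mkIdTerminal.from T, hG T _ _, fun g _ => Over.mkIdTerminal.hom_ext _ _⟩
  · exact (inferInstance : IsSeparated (𝟙 S))
  · exact (inferInstance : LocallyOfFiniteType (𝟙 S))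
  · exact AF.IsAF.of_isAffine (X := S)

/-- The rule `empty`. -/
theorem genGood_empty {X S : Scheme.{u}} (f : X ⟶ S) [IsAffine S] [Nonempty S] [IsEmpty X] :
    GenGood f := Base.genGood_of_good f (good_of_isEmpty f)

end Groth.Agent.Pic13.H932.GenRules
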