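import Groth.Agent.Pic13.H932.GenRules
import Groth.Agent.Pic13.H943.HFreeShrink
import Groth.Agent.Pic13.H943.ExistsCF
import Groth.Agent.Smoothlim.ConormalRes
import Groth.Agent.CycB.CohProp
import Groth.Agent.CohqA.IdealMod
import Groth.Agent.CurvesC.UnitCoh
import Groth.Agent.Fga.HilbClosed
import Groth.Agent.Divis.IdealComap
import Groth.Agent.Pic13.H126.NilSit

/-!
# Shrinking the base of a square-zero thickening
-/

set_option autoImplicit false
universe u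

open CategoryTheory CategoryTheory.Limits AlgebraicGeometry Opposite TopologicalSpace

namespace Groth.Agent.Pic13.H932.NilShrink

open Groth.Agent Groth.Agent.Pic13.H964.Defs Groth.Agent.Pic13.H932.GenRules Groth.Agent.Pic13.H943
  Groth.Agent.Pic13.H943.FlatBC

theorem isCoh_idealMod {X : Scheme.{u}} [IsLocallyNoetherian X] (D : X.IdealSheafData) :
    Coh.IsCoh (ClSub.idealMod D) := by
  have := CohqA.IdealMod.mono_idealModι D
  exact CycB.CohProp.isCoh_of_mono (ClSub.idealModι D) (CohqA.IdealMod.isQCoh_idealMod D)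
    (CurvesC.UnitCoh.isCoh_unit X)

/-- `CFN` with free cohomology, along an isomorphism of modules -/
theorem free_congr {X S : Scheme.{u}} (f : X ⟶ S) {F G : X.Modules} (e : F ≅ G)
    (h : ∀ p, letI := modH f F p; Module.Free Γ(S, ⊤) (Coh.HH X F p)) (p : ℕ) :
    letI := modH f G p
    Module.Free Γ(S, ⊤) (Coh.HH X G p) := by
  let i1 := modH f F p
  let i2 := modH f G p
  have := h p
  exact Module.Free.of_equiv (CFN.congrH f e p)

theorem exists_data {X₀ X S : Scheme.{u}} [IsAffine S] [IsNoetherian S] [IsIntegral S] (i : X₀ ⟶ X)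
    (f : X ⟶ S) [IsClosedImmersion i] [IsProper f] (hsq : i.ker ^ 2 = ⊥) (hg : GenGood (i ≫ f)) :
    ∃ V : S.Opens, (V : Set S).Nonempty ∧ IsAffineOpen V ∧
      ∃ (X₀' : Scheme.{u}) (g₀ : X₀' ⟶ X₀) (i' : X₀' ⟶ pullback f V.ι),
        IsPullback i' g₀ (pullback.fst f V.ι) i ∧ i'.ker ^ 2 = ⊥ ∧ IsClosedImmersion i' ∧
        CFN (pullback.snd f V.ι) (ClSub.idealMod i'.ker) ∧
        (∀ p, letI := modH (pullback.snd f V.ι) (ClSub.idealMod i'.ker) p
          Module.Free Γ(V, ⊤) (Coh.HH (pullback f V.ι) (ClSub.idealMod i'.ker) p)) ∧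
        CF (pullback.snd f V.ι) ∧ CF (i' ≫ pullback.snd f V.ι) ∧ Good (i' ≫ pullback.snd f V.ι) := by
  have hX : IsLocallyNoetherian X := LocallyOfFiniteType.isLocallyNoetherian f
  obtain ⟨V₁, hV₁, h₁⟩ := exists_cf f
  obtain ⟨V₂, hV₂, h₂⟩ := exists_cf (i ≫ f)
  obtain ⟨V₃, hV₃, h₃⟩ := exists_cfn_free f (ClSub.idealMod i.ker) (isCoh_idealMod _)
  obtain ⟨V₄, hV₄, h₄⟩ := hg
  have hmem : ∀ {V : S.Opens}, (V : Set S).Nonempty → genericPoint S ∈ V := fun {V} hV =>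
    ((genericPoint_spec S).mem_open_set_iff V.isOpen).mpr (by simpa using hV)
  obtain ⟨V, hV, hxV, hle⟩ : ∃ V : S.Opens, IsAffineOpen V ∧ genericPoint S ∈ V ∧
      V ≤ V₁ ⊓ V₂ ⊓ V₃ ⊓ V₄ := by
    obtain ⟨_, ⟨V, hV, rfl⟩, hxV, hVle⟩ := S.isBasis_affineOpens.exists_subset_of_mem_open
      (show genericPoint S ∈ ((V₁ ⊓ V₂ ⊓ V₃ ⊓ V₄ : S.Opens) : Set S) from
        ⟨⟨⟨hmem hV₁, hmem hV₂⟩, hmem hV₃⟩, hmem hV₄⟩) (V₁ ⊓ V₂ ⊓ V₃ ⊓ V₄).isOpen
    exact ⟨V, hV, hxV, hVle⟩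
  have hle1 : V ≤ V₁ := hle.trans (inf_le_left.trans (inf_le_left.trans inf_le_left))
  have hle2 : V ≤ V₂ := hle.trans (inf_le_left.trans (inf_le_left.trans inf_le_right))
  have hle3 : V ≤ V₃ := hle.trans (inf_le_left.trans inf_le_right)
  have hle4 : V ≤ V₄ := hle.trans inf_le_right
  have hi : (pullback.fst (i ≫ f) V.ι ≫ i) ≫ f = pullback.snd (i ≫ f) V.ι ≫ V.ι := by
    rw [Category.assoc, pullback.condition]
  let i' : pullback (i ≫ f) V.ι ⟶ pullback f V.ι :=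
    pullback.lift (pullback.fst (i ≫ f) V.ι ≫ i) (pullback.snd (i ≫ f) V.ι) hi
  have hi1 : i' ≫ pullback.fst f V.ι = pullback.fst (i ≫ f) V.ι ≫ i := pullback.lift_fst _ _ _
  have hi2 : i' ≫ pullback.snd f V.ι = pullback.snd (i ≫ f) V.ι := pullback.lift_snd _ _ _
  have H : IsPullback (pullback.fst (i ≫ f) V.ι) i' i (pullback.fst f V.ι) := by
    refine IsPullback.of_bot ?_ hi1.symm (IsPullback.of_hasPullback f V.ι)
    rw [hi2]
    exact IsPullback.of_hasPullback (i ≫ f) V.ι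
  have hci : IsClosedImmersion i' := MorphismProperty.of_isPullback H inferInstance
  have hker : i'.ker = i.ker.comap (pullback.fst f V.ι) := Fga.HilbClosed.ker_of_isPullback H
  let e : (Scheme.Modules.pullback (pullback.fst f V.ι)).obj (ClSub.idealMod i.ker) ≅
      ClSub.idealMod i'.ker :=
    ((Scheme.Modules.restrictFunctorIsoPullback (pullback.fst f V.ι)).app (ClSub.idealMod i.ker)).symm ≪≫
      Smoothlim.ConormalRes.restrictIdealModIso H.flip
  refine ⟨V, ⟨_, hxV⟩, hV, pullback (i ≫ f) V.ι, pullback.fst (i ≫ f) V.ι, i', H.flip, ?_, hci,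
    (h₃ V hle3 hV).1.congr e, free_congr _ e (h₃ V hle3 hV).2, h₁ V hle1 hV, ?_, ?_⟩
  · rw [hker, ← Divis.IdealComap.comap_pow, hsq, Scheme.IdealSheafData.comap_bot]
  · rw [hi2]
    exact h₂ V hle2 hV
  · rw [hi2]
    exact good_of_le (i ≫ f) hle4 hV h₄

open Groth.Agent.Pic13.H126.NilSit in
/-- Shrinking the base of a square-zero thickening, all conditions. -/
theorem exists_sit {X₀ X S : Scheme.{u}} [IsAffine S] [IsNoetherian S] [IsIntegral S] (i : X₀ ⟶ X)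
    (f : X ⟶ S) [IsClosedImmersion i] [IsProper f] (hsq : i.ker ^ 2 = ⊥) (hg : GenGood (i ≫ f)) :
    ∃ V : S.Opens, (V : Set S).Nonempty ∧ IsAffineOpen V ∧
      ∃ (X₀' : Scheme.{u}) (g₀ : X₀' ⟶ X₀) (i' : X₀' ⟶ pullback f V.ι),
        IsPullback i' g₀ (pullback.fst f V.ι) i ∧ i'.ker ^ 2 = ⊥ ∧ NSit i' (pullback.snd f V.ι) ∧
        CF (pullback.snd f V.ι) ∧ CF (i' ≫ pullback.snd f V.ι) ∧ Good (i' ≫ pullback.snd f V.ι) := by
  obtain ⟨V, hV, hVa, X₀', g₀, i', H, hk, hci, hcfn, hfree, h1, h2, h3⟩ := exists_data i f hsq hg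
  exact ⟨V, hV, hVa, X₀', g₀, i', H, hk,
    ⟨hVa, hci, inferInstance, inferInstance, h2.flat, hcfn, hfree⟩, h1, h2, h3⟩

end Groth.Agent.Pic13.H932.NilShrink
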