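import Groth.Agent.Pic13.H932.GoodIso

/-!
# Representability over a nonempty open of a one-point base

`exists_of_open`: if the base `S` has one point, representability over a nonempty open is representability over `S`. In
particular the generic representability theorem gives representability over a field.
-/

set_option autoImplicit false
universe w u

open CategoryTheory CategoryTheory.Limits AlgebraicGeometry Opposite

namespace Groth.Agent.Pic13.H932.OverField

open Groth.Agent.Pic13.H932.GoodIso Groth.Agent.Pic13.H964.Defs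

theorem exists_of_open {X S : Scheme.{u}} [Subsingleton S] (f : X ⟶ S) (V : S.Opens)
    (hV : (V : Set S).Nonempty) (P : Over V.toScheme)
    (hP : PicRel.RepresentedBy (pullback.snd f V.ι) P) (h1 : IsSeparated P.hom)
    (h2 : LocallyOfFiniteType P.hom) :
    ∃ P : Over S, PicRel.RepresentedBy f P ∧ IsSeparated P.hom ∧ LocallyOfFiniteType P.hom := by
  obtain ⟨x, hx⟩ := hV
  have hVtop : V = ⊤ := by
    ext y
    simpa [Subsingleton.elim y x] using hx
  subst hVtop
  let e := S.topIso
  refine ⟨(Over.pullback e.inv).obj P, ?_, ?_, ?_⟩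
  · have h3 := representedBy_baseChange (pullback.snd f (⊤ : S.Opens).ι) e.inv hP
    have H := (IsPullback.of_hasPullback (pullback.snd f (⊤ : S.Opens).ι) e.inv).paste_horiz
      (IsPullback.of_hasPullback f (⊤ : S.Opens).ι)
    have hw : e.inv ≫ (⊤ : S.Opens).ι = 𝟙 S := e.inv_hom_id
    rw [hw] at H
    have H' : IsPullback (𝟙 X) f f (𝟙 S) := IsPullback.of_horiz_isIso ⟨by simp⟩
    exact representedBy_of_iso (H'.isoIsPullback _ _ H) (H'.isoIsPullback_hom_snd _ _ H) h3
  · exact (inferInstance : IsSeparated (pullback.snd P.hom e.inv))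
  · exact (inferInstance : LocallyOfFiniteType (pullback.snd P.hom e.inv))

/-- `S4289` from `S4298`. -/
theorem result_of (h : ∀ {X S : Scheme.{u}} [IsNoetherian S] [IsIntegral S] (f : X ⟶ S) [IsProper f],
      ∃ V : S.Opens, (V : Set S).Nonempty ∧ ∃ P : Over (V : Scheme.{u}),
        PicRel.RepresentedBy (pullback.snd f V.ι) P ∧ IsSeparated P.hom ∧ LocallyOfFiniteType P.hom)
    (k : Type u) [Field k] (X : Scheme.{u}) [X.Over (Spec (CommRingCat.of k))]
    [IsProper (X ↘ Spec (CommRingCat.of k))] :
    ∃ P : Over (Spec (CommRingCat.of k)), PicRel.RepresentedBy (X ↘ Spec (CommRingCat.of k)) P ∧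
      IsSeparated P.hom ∧ LocallyOfFiniteType P.hom := by
  have h0 : IsNoetherian (Spec (CommRingCat.of k)) := inferInstance
  obtain ⟨V, hV, P, h1, h2, h3⟩ := h (X ↘ Spec (CommRingCat.of k))
  have : Subsingleton (Spec (CommRingCat.of k)) := inferInstanceAs (Subsingleton (PrimeSpectrum k))
  exact exists_of_open _ V hV P h1 h2 h3

end Groth.Agent.Pic13.H932.OverField
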