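import Groth.Agent.Pic13.H932.QuoAF
import Groth.Agent.Models2.QuoPicCB
import Groth.Agent.Ega3A.PicAsm
import Groth.Agent.Ega3A.PicCB
import Groth.Agent.Ega3A.PicRep

/-!
# The Picard scheme of S3226 over an affine Noetherian base: finite sets of points lie in affine opens

`exists_representedBy_af`: for `X` closed in `P^n_S`, flat over `S` affine Noetherian with integral geometric fibres, the
étale sheafified relative Picard functor is represented by a separated scheme locally of finite type over `S` in which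
every finite set of points lies in an affine open.
-/

set_option autoImplicit false
universe w u

open CategoryTheory CategoryTheory.Limits AlgebraicGeometry Opposite TopologicalSpace
open Groth.Agent.Fdesc.LocGen Groth.Agent.Picfga.P1Def Groth.Agent.Ega3A.PicGood
  Groth.Agent.Ega3A.PicDiv Groth.Agent.Grpsch.PicGrp Groth.Agent.Ega3A.PicSheaf

namespace Groth.Agent.Pic13.H932.PicAF

open Groth.Agent.Picfga.OverRep Groth.Agent.Models2.QuoRep Groth.Agent.Models2.QuoSat
  Groth.Agent.Models2.QuoPic Groth.Agent.Models2 Groth.Agent.Pic13.H932.AF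

variable {X S : Scheme.{u}} (f : X ⟶ S)

/-- The strong form of the statement of package M. -/
def TwistStmt' (O : ℕ → Pic X) : Prop :=
  ∀ (T : Over S) (K : Type u) [Field K] (_ : T.left ≅ Spec (CommRingCat.of K))
    (c : Pic (PicF.XT f T)), ∃ m₀ : ℕ, ∀ m, m₀ ≤ m →
      ∀ (M : (PicF.XT f T).Modules) (hM : PicF.IsInvertible M),
        mk M hM = c * base f (O m) T → Acyc M ∧ ∃ s : Γ(M, ⊤), s ≠ 0

variable {f}

/-- the maps `xi P R (O m) : D ⟶ G`, `m` large, cover a neighbourhood of a given point. -/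
theorem exists_lift_large [IsProper f] (P : PicSh f) (R : DivRep f) (hc : CoverStmt f R)
    (O : ℕ → Pic X) (hO : TwistStmt' f O) (T : Over S) (x : P.G.obj (op T)) (t : T.left) :
      ∃ m₀ : ℕ, ∀ m, m₀ ≤ m → ∃ (V : Over S) (j : V ⟶ T) (_ : Etale j.left) (v : V.left)
        (s : V ⟶ R.D), j.left v = t ∧ P.G.map s.op (xi P R (O m)) = P.G.map j.op x := by
  obtain ⟨𝒰, h𝒰⟩ := P.locSurj T x
  obtain ⟨i, v₀, hv₀⟩ := 𝒰.covers t
  obtain ⟨c, hc'⟩ := h𝒰 i
  let K : Type u := (𝒰.V i).left.residueField v₀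
  let τ : Spec (CommRingCat.of K) ⟶ (𝒰.V i).left := (𝒰.V i).left.fromSpecResidueField v₀
  obtain ⟨m₀, hm₀⟩ := hO (fpt (𝒰.V i) τ) K (Iso.refl _) (pu f (fptHom (𝒰.V i) τ) c)
  refine ⟨m₀, fun m hle => ?_⟩
  have hm := hm₀ m hle
  obtain ⟨M, hM, hcM⟩ := exists_mk (c * base f (O m) (𝒰.V i))
  obtain ⟨hac, hnz⟩ := hm (pb f (fptHom (𝒰.V i) τ) M) (isInvertible_pullback _ hM) (by
    change pu f (fptHom (𝒰.V i) τ) (mk M hM) = _
    rw [← hcM, map_mul, pu_base])
  obtain ⟨U, k', hU, hk'⟩ := hc (𝒰.V i) M hM K τ hac hnz (IsLocalRing.closedPoint K)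
  have hτ : τ (IsLocalRing.closedPoint K) = v₀ := Scheme.fromSpecResidueField_apply v₀ _
  rw [hτ] at hU
  refine ⟨Over.mk (U.ι ≫ (𝒰.V i).hom), res (𝒰.V i) U ≫ 𝒰.j i, ?_, ⟨v₀, hU⟩, k', ?_, ?_⟩
  · change Etale (U.ι ≫ (𝒰.j i).left)
    infer_instance
  · refine Eq.trans ?_ hv₀
    change (U.ι ≫ (𝒰.j i).left) ⟨v₀, hU⟩ = _
    rw [Scheme.Hom.comp_apply]
    rfl
  · rw [map_xi_of_eq P R (O m) c (res (𝒰.V i) U) k' (by rw [hk', hcM]), hc', ← map_comp_apply]

/-- The étale sheafified Picard functor is representable by an AF scheme, given the scheme of good divisors. -/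
theorem exists_universal_of_af [IsNoetherian S] [IsAffine S] [IsProper f] (P : PicSh f)
    (R : DivRep f)
    {Z : Over S} {f₁ f₂ : Z ⟶ R.D} (hZ : R.IsRel Z f₁ f₂) (hsm : Smooth f₁.left)
    (hpr : IsProper f₁.left) (ι : Type u) (U : ι → R.D.left.Opens) (hU : ∀ x, ∃ a, x ∈ U a)
    (hcl : ∀ a, IsClosed (U a : Set R.D.left))
    (he : ∀ a, ∃ (m : ℕ) (e : (U a).toScheme ⟶ CohB1.ProjSpaceOver m S), IsImmersion e ∧
        e ≫ CohB1.ProjSpaceOver.toBase m S = (U a).ι ≫ R.D.hom)
    (hconn : ∀ (c : ι) (T : Over S) (a b : T ⟶ R.D), LocEq f T (pu f a R.κ) (pu f b R.κ) →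
      ∀ t : T.left, a.left t ∈ U c → b.left t ∈ U c)
    (hc : CoverStmt f R) (O : ℕ → Pic X) (hO : TwistStmt' f O) :
    ∃ (H : Over S) (Z : P.G.obj (op H)),
      (∀ (T : Over S) (x : P.G.obj (op T)), ∃! g : T ⟶ H, P.G.map g.op Z = x) ∧
      LocallyOfFiniteType H.hom ∧ IsAF H.left := by
  classical
  choose n e hei hee using he
  let Pm : ULift.{u} ℕ → SPres P.G := fun m =>
    { D := R.D
      R := Z
      ξ := xi P R (O m.down)
      f₁ := f₁
      f₂ := f₂
      proper₁ := hpr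
      smooth₁ := hsm
      proper₂ := QuoDiv.IsRel.proper₂ hZ
      smooth₂ := QuoDiv.IsRel.smooth₂ hZ
      inj := QuoDiv.IsRel.inj hZ
      rel := fun T a b => by rw [map_xi_eq_iff, hZ.iff]
      ι := ι
      U := U
      covers := hU
      sat := fun a z => by
        have h := (hZ.iff Z f₁ f₂).1 ⟨𝟙 Z, Category.id_comp _, Category.id_comp _⟩
        exact ⟨hconn a Z f₁ f₂ h z, hconn a Z f₂ f₁ h.symm z⟩
      n := n
      e := e
      isImmersion := hei
      e_toBase := hee }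
  refine QuoAF.exists_universal_af P.sheaf Pm (fun m => ?_) (fun m a => hcl a) (fun T x F => ?_)
  · intro T T' x g s hs t
    exact openCond P R hc (O m.down) T T' x g s hs t
  · choose m₀ hm₀ using exists_lift_large P R hc O hO T x
    refine ⟨⟨F.sup m₀⟩, fun t ht => ?_⟩
    exact hm₀ t (F.sup m₀) (Finset.le_sup ht)

/-- **The étale sheafified Picard functor of a flat projective scheme with integral geometric fibres over an affine
Noetherian base is representable by an AF scheme.** -/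
theorem exists_universal_af [IsNoetherian S] [IsAffine S] (f : X ⟶ S) (n : ℕ)
    (i : X ⟶ CohB1.ProjSpaceOver n S) [IsClosedImmersion i]
    (hi : i ≫ CohB1.ProjSpaceOver.toBase n S = f) [Flat f] (h : GInt f)
    (hCB : QuoPicCB.CBStmt f) (P : PicSh f) :
    ∃ (H : Over S) (Z : P.G.obj (op H)),
      (∀ (T : Over S) (x : P.G.obj (op T)), ∃! g : T ⟶ H, P.G.map g.op Z = x) ∧
      LocallyOfFiniteType H.hom ∧ IsAF H.left := by
  subst hi
  have hp : IsProper (CohB1.ProjSpaceOver.toBase n S) := Dix.ProjProper.isProper_toBase n S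
  have hO : ∀ m : ℕ, PicF.IsInvertible ((Scheme.Modules.pullback i).obj (Twist.twistOver n S m)) :=
    fun m => isInvertible_pullback i (Ega2.VeryAmpleAmple.isInvertible_twistOver n S m)
  obtain ⟨R, ι, U, hcl, hU, he⟩ := Ega3B.DivRepMid.exists_divRep_of_cb n i h
    (fun T _ M hM K _ t ht x => by
      obtain ⟨U, r, s, h1, -, h2⟩ := hCB T inferInstance M hM t ht x
      exact ⟨U, h1, h2⟩) (S3218.result S n X i)
  obtain ⟨Z, f₁, f₂, hZ, hZ1, hZ2, hZ3⟩ := Ega3A.PicRelImm.exists_isRel _ h R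
  have hsm : Smooth f₁.left := Ega3A.PicSmooth.smooth_rel_of_cb hCB h R Z f₁ f₂ hZ
  have hqc : QuasiCompact f₁.left := Ega3B.PicQC.quasiCompact_core hCB hZ
  have hpr : IsProper f₁.left := FormalB.PicProper.proper_rel_core h
    (fun T hT M hM K _ t ht x => by
      obtain ⟨U, r, s, h1, h2, -⟩ := hCB T hT M hM t ht x
      exact ⟨U, r, s, h1, h2⟩) R Z f₁ f₂ hZ hqc
  refine exists_universal_of_af P R hZ hsm hpr ι U hU hcl he
    (fun c T a b hab t ht => PerfB.PicConn338.same_clopen _ h R (U c) (hcl c) T a b hab t ht)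
    (fun T M hM K _ t ht hs x => Ega3A.PicCoverCore.exists_map_of_good_core _
      (fun T _ c => Ega2.PicK1.exists_ft _ T c) hCB R T M hM t ht hs x)
    (fun m => mk _ (hO m)) ?_
  intro T K _ e c
  obtain ⟨L, hL, rfl⟩ := exists_mk c
  obtain ⟨m₀, hm₀⟩ := Ega3B.PicTwist.exists_twist n i hO T e
    (Ega3A.PicInt.isIntegral_XT_field _ h T e) L hL
  exact ⟨m₀, hm₀⟩

/-- **(base)** The Picard scheme over an affine Noetherian base, with finite sets of points in affine opens. -/
theorem exists_representedBy_af [IsNoetherian S] [IsAffine S] (n : ℕ)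
    (i : X ⟶ CohB1.ProjSpaceOver n S) [IsClosedImmersion i]
    [Flat (i ≫ CohB1.ProjSpaceOver.toBase n S)] (h : GInt (i ≫ CohB1.ProjSpaceOver.toBase n S)) :
    ∃ P : Over S, PicRel.RepresentedBy (i ≫ CohB1.ProjSpaceOver.toBase n S) P ∧
      IsSeparated P.hom ∧ LocallyOfFiniteType P.hom ∧ IsAF P.left := by
  have hp : IsProper (CohB1.ProjSpaceOver.toBase n S) := Dix.ProjProper.isProper_toBase n S
  obtain ⟨E⟩ := exists_picSh (i ≫ CohB1.ProjSpaceOver.toBase n S)
  obtain ⟨H, Z, h1, h2, h3⟩ := exists_universal_af _ n i rfl h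
    (fun T _ M hM K _ t ht x => Ega3A.PicCB.exists_ubasis _ T M hM t ht x) E
  have hrep := Ega3A.PicRep.representedBy_of_universal _ E H Z h1
  exact ⟨H, hrep, Ega3A.PicSep.isSeparated_of_representedBy _ h H hrep, h2, h3⟩

end Groth.Agent.Pic13.H932.PicAF
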