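import Groth.Agent.Pic13.H932.AFProj
import Groth.Agent.Models2.QuoSat

/-!
# The representability criterion `QuoSat.exists_universal` with finite sets of points in affine opens

`exists_universal_af`: if moreover `S` is affine, the pieces of the presentations are closed, and finitely many points
of `T ⟶ G` are covered by one presentation, then every finite set of points of the representing scheme lies in an
affine open.
-/

set_option autoImplicit false
universe w u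

open CategoryTheory CategoryTheory.Limits AlgebraicGeometry Opposite TopologicalSpace

namespace Groth.Agent.Pic13.H932.QuoAF

open Groth.Agent.Picfga.OverRep Groth.Agent.Models2.QuoRep Groth.Agent.Models2.QuoSplit
  Groth.Agent.Models2.QuoDiv Groth.Agent.Models2.QuoSat Groth.Agent.Pic13.H932.AF

variable {S : Scheme.{u}} {G : (Over S)ᵒᵖ ⥤ Type w}

/-- `QuoSat.exists_universal` with the charts. -/
theorem exists_universal_charts [IsNoetherian S] (hG : IsEtSheaf G) {M : Type u} (P : M → SPres G)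
    (hO : ∀ m, (P m).OpenCond)
    (hcov : ∀ (T : Over S) (x : G.obj (op T)) (t : T.left), ∃ (m : M) (V : Over S) (j : V ⟶ T)
      (_ : Etale j.left) (v : V.left) (s : V ⟶ (P m).D), j.left v = t ∧
        G.map s.op (P m).ξ = G.map j.op x) :
    ∃ (H : Over S) (Z : G.obj (op H)) (Q : (Σ m : M, (P m).ι) → Over S) (j : ∀ p, Q p ⟶ H),
      (∀ (T : Over S) (x : G.obj (op T)), ∃! g : T ⟶ H, G.map g.op Z = x) ∧
      LocallyOfFiniteType H.hom ∧ (∀ p, IsOpenImmersion (j p).left) ∧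
      (∀ p, ∃ (m : ℕ) (e' : (Q p).left ⟶ CohB1.ProjSpaceOver m S), IsImmersion e') ∧
      (∀ (p) (T : Over S) (x : G.obj (op T)), (∃ k : T ⟶ Q p, G.map (k ≫ j p).op Z = x) ↔
        ∃ 𝒰 : EtCov T, ∀ i, ∃ s : 𝒰.V i ⟶ Over.mk (((P p.1).U p.2).ι ≫ (P p.1).D.hom),
          G.map (s ≫ res (P p.1).D ((P p.1).U p.2)).op (P p.1).ξ = G.map (𝒰.j i).op x) := by
  have hpc : ∀ p : (Σ m : M, (P m).ι), _ := fun p => (P p.1).exists_piece hG p.2
  choose Q y hm hmono himg using hpc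
  have hcov' : ∀ (T : Over S) (x : G.obj (op T)) (t : T.left), ∃ (p : Σ m : M, (P m).ι)
      (U : T.left.Opens) (k : Over.mk (U.ι ≫ T.hom) ⟶ Q p), t ∈ U ∧
        G.map k.op (y p) = G.map (res T U).op x := by
    intro T x t
    obtain ⟨m, V, j, hj, v, s, rfl, hs⟩ := hcov T x t
    obtain ⟨a, ha⟩ := (P m).covers (s.left v)
    exact ⟨⟨m, a⟩, (P m).exists_chart_map a (Q ⟨m, a⟩) (y ⟨m, a⟩) (himg ⟨m, a⟩) x j hj v s hs ha⟩
  have hopen : ∀ (p : Σ m : M, (P m).ι) (T : Over S) (x : G.obj (op T)) (T' : Over S) (g : T' ⟶ T)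
      (h : T' ⟶ Q p), G.map h.op (y p) = G.map g.op x → ∀ t : T'.left,
      ∃ (U : T.left.Opens) (k : Over.mk (U.ι ≫ T.hom) ⟶ Q p),
        g.left t ∈ U ∧ G.map k.op (y p) = G.map (res T U).op x := by
    rintro ⟨m, a⟩ T x T' g h hh t
    obtain ⟨𝒰, h𝒰⟩ := (himg ⟨m, a⟩ T' (G.map g.op x)).1 ⟨h, hh⟩
    obtain ⟨i, v₀, hv₀⟩ := 𝒰.covers t
    obtain ⟨s₀, hs₀⟩ := h𝒰 i
    rw [← map_comp_apply] at hs₀
    obtain ⟨V, j, hj, v, s, hv, hs⟩ := hO m T (𝒰.V i) x (𝒰.j i ≫ g) (s₀ ≫ res (P m).D ((P m).U a))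
      hs₀ v₀
    have hmem : s.left v ∈ (P m).U a :=
      (P m).mem_of_mem a x (𝒰.j i ≫ g) j (s₀ ≫ res (P m).D ((P m).U a)) s hs₀ hs v₀ v hv.symm
        (s₀.left v₀).2
    obtain ⟨U, k, hU, hk⟩ := (P m).exists_chart_map a (Q ⟨m, a⟩) (y ⟨m, a⟩) (himg ⟨m, a⟩) x j hj v s
      hs hmem
    refine ⟨U, k, ?_, hk⟩
    rw [hv] at hU
    have h3 : (𝒰.j i ≫ g).left v₀ = g.left t := by
      rw [Over.comp_left, Scheme.Hom.comp_apply, hv₀]
    rwa [h3] at hU
  let C : Charts G :=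
    { ι := Σ m : M, (P m).ι
      X := Q
      ξ := y
      mono := hmono
      isOpen := hopen
      covers := hcov' }
  obtain ⟨H, Z, j, huniv, hj, hjZ, hjs⟩ := C.exists_universal' hG.isZarSheaf
  have hQft : ∀ p, LocallyOfFiniteType (Q p).hom := by
    intro p
    obtain ⟨m, e', he', he''⟩ := hm p
    rw [← he'']
    have : LocallyOfFiniteType (CohB1.ProjSpaceOver.toBase m S) :=
      (Dix.ProjProper.isProper_toBase m S).toLocallyOfFiniteType
    infer_instance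
  refine ⟨H, Z, Q, j, huniv, ?_, hj, fun p => ?_, fun p T x => ?_⟩
  · let 𝒱 : H.left.OpenCover :=
      { I₀ := C.ι
        X := fun p => (Q p).left
        f := fun p => (j p).left
        mem₀ := by
          rw [Scheme.presieve₀_mem_precoverage_iff]
          exact ⟨fun t => hjs t, hj⟩ }
    rw [IsZariskiLocalAtSource.iff_of_openCover (P := @LocallyOfFiniteType) 𝒱]
    intro p
    change LocallyOfFiniteType ((j p).left ≫ H.hom)
    rw [Over.w]
    exact hQft p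
  · obtain ⟨m, e', he', -⟩ := hm p
    exact ⟨m, e', he'⟩
  · rw [← himg p T x]
    refine exists_congr (fun k => ?_)
    rw [map_comp_apply]
    have : G.map (j p).op Z = y p := hjZ p
    rw [this]

/-- trivial étale covering -/
def idCov (T : Over S) : EtCov T where
  ι := PUnit
  V _ := T
  j _ := 𝟙 T
  isEtale _ := inferInstanceAs (Etale (𝟙 T.left))
  covers t := ⟨⟨⟩, t, rfl⟩

/-- two lifts of the same element of `G(T)` at points with the same image are related -/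
lemma exists_rel_point (P : SPres G) {T V₁ V₂ : Over S} (x : G.obj (op T)) (j₁ : V₁ ⟶ T)
    (j₂ : V₂ ⟶ T) (s₁ : V₁ ⟶ P.D) (s₂ : V₂ ⟶ P.D) (h₁ : G.map s₁.op P.ξ = G.map j₁.op x)
    (h₂ : G.map s₂.op P.ξ = G.map j₂.op x) (v₁ : V₁.left) (v₂ : V₂.left)
    (hv : j₁.left v₁ = j₂.left v₂) :
    ∃ r : P.R.left, P.f₁.left r = s₁.left v₁ ∧ P.f₂.left r = s₂.left v₂ := by
  obtain ⟨z, hz₁, hz₂⟩ := Scheme.Pullback.exists_preimage_pullback v₁ v₂ hv
  let W : Over S := Over.mk (pullback.fst j₁.left j₂.left ≫ V₁.hom)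
  let p₁ : W ⟶ V₁ := Over.homMk (pullback.fst j₁.left j₂.left) rfl
  let p₂ : W ⟶ V₂ := Over.homMk (pullback.snd j₁.left j₂.left) (by
    change pullback.snd j₁.left j₂.left ≫ V₂.hom = pullback.fst j₁.left j₂.left ≫ V₁.hom
    rw [← Over.w j₁, ← Over.w j₂, pullback.condition_assoc])
  have hp : p₁ ≫ j₁ = p₂ ≫ j₂ := by
    ext
    exact pullback.condition
  obtain ⟨r, hr₁, hr₂⟩ := (P.rel W (p₁ ≫ s₁) (p₂ ≫ s₂)).1 (by
    rw [map_comp_apply, map_comp_apply, h₁, h₂, ← map_comp_apply, ← map_comp_apply, hp])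
  refine ⟨r.left z, ?_, ?_⟩
  · have h3 : (r.left ≫ P.f₁.left) z = (pullback.fst j₁.left j₂.left ≫ s₁.left) z :=
      congrArg (fun f : W.left ⟶ P.D.left => f z) (congrArg CommaMorphism.left hr₁)
    rw [Scheme.Hom.comp_apply, Scheme.Hom.comp_apply, hz₁] at h3
    exact h3
  · have h3 : (r.left ≫ P.f₂.left) z = (pullback.snd j₁.left j₂.left ≫ s₂.left) z :=
      congrArg (fun f : W.left ⟶ P.D.left => f z) (congrArg CommaMorphism.left hr₂)
    rw [Scheme.Hom.comp_apply, Scheme.Hom.comp_apply, hz₂] at h3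
    exact h3

/-- The image of a saturated open set under the classifying map is open. -/
lemma isOpen_image {H : Over S} {Z : G.obj (op H)}
    (huniv : ∀ (T : Over S) (x : G.obj (op T)), ∃! g : T ⟶ H, G.map g.op Z = x) (P : SPres G)
    (hO : P.OpenCond) (d : P.D ⟶ H) (hd : G.map d.op Z = P.ξ) (U : Set P.D.left) (hU : IsOpen U)
    (hsat : ∀ z : P.R.left, P.f₁.left z ∈ U ↔ P.f₂.left z ∈ U) :
    IsOpen (d.left '' U) := by
  rw [isOpen_iff_forall_mem_open]
  rintro _ ⟨t, ht, rfl⟩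
  have h0 : G.map (𝟙 P.D : P.D ⟶ P.D).op P.ξ = G.map d.op Z := by
    rw [op_id, G.map_id, hd]
    rfl
  obtain ⟨V, j, hj, v, s', hv, hs'⟩ := hO H P.D Z d (𝟙 P.D) h0 t
  have hcomp : s' ≫ d = j :=
    (huniv V (G.map j.op Z)).unique (y₁ := s' ≫ d) (y₂ := j) (by rw [map_comp_apply, hd, hs']) rfl
  refine ⟨j.left '' (s'.left ⁻¹' U), ?_, ?_, ?_⟩
  · rintro _ ⟨w, hw, rfl⟩
    refine ⟨s'.left w, hw, ?_⟩
    rw [← Scheme.Hom.comp_apply, ← Over.comp_left, hcomp]
  · exact j.left.isOpenMap _ (hU.preimage s'.left.continuous)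
  · refine ⟨v, ?_, hv⟩
    obtain ⟨r, hr₁, hr₂⟩ := exists_rel_point P Z d j (𝟙 P.D) s' h0 hs' t v hv.symm
    change s'.left v ∈ U
    rw [← hr₂, ← hsat, hr₁]
    exact ht

/-- **Representability criterion with AF.** -/
theorem exists_universal_af [IsNoetherian S] [IsAffine S] (hG : IsEtSheaf G) {M : Type u}
    (P : M → SPres G) (hO : ∀ m, (P m).OpenCond)
    (hcl : ∀ m a, IsClosed ((P m).U a : Set (P m).D.left))
    (hcov : ∀ (T : Over S) (x : G.obj (op T)) (F : Finset T.left), ∃ m : M, ∀ t ∈ F, ∃ (V : Over S)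
      (j : V ⟶ T) (_ : Etale j.left) (v : V.left) (s : V ⟶ (P m).D), j.left v = t ∧
        G.map s.op (P m).ξ = G.map j.op x) :
    ∃ (H : Over S) (Z : G.obj (op H)),
      (∀ (T : Over S) (x : G.obj (op T)), ∃! g : T ⟶ H, G.map g.op Z = x) ∧
      LocallyOfFiniteType H.hom ∧ IsAF H.left := by
  obtain ⟨H, Z, Q, j, huniv, hft, hj, hQ, himg⟩ := exists_universal_charts hG P hO
    (fun T x t => by
      obtain ⟨m, hm⟩ := hcov T x {t}
      obtain ⟨V, j, hj, v, s, h⟩ := hm t (Finset.mem_singleton_self t)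
      exact ⟨m, V, j, hj, v, s, h⟩)
  refine ⟨H, Z, huniv, hft, IsAF.of_clopen (fun F => ?_)⟩
  obtain ⟨m, hm⟩ := hcov H Z F
  obtain ⟨d, hd, -⟩ := huniv (P m).D (P m).ξ
  have hrange : ∀ a : (P m).ι, Set.range (j ⟨m, a⟩).left = d.left '' ((P m).U a : Set _) := by
    intro a
    apply le_antisymm
    · rintro _ ⟨q, rfl⟩
      obtain ⟨𝒰, h𝒰⟩ := (himg ⟨m, a⟩ (Q ⟨m, a⟩) (G.map (j ⟨m, a⟩).op Z)).1
        ⟨𝟙 _, by rw [Category.id_comp]⟩
      obtain ⟨i, v, rfl⟩ := 𝒰.covers q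
      obtain ⟨s, hs⟩ := h𝒰 i
      have hcomp : (s ≫ res (P m).D ((P m).U a)) ≫ d = 𝒰.j i ≫ j ⟨m, a⟩ :=
        (huniv _ (G.map (𝒰.j i ≫ j ⟨m, a⟩).op Z)).unique
          (by rw [map_comp_apply, hd, hs, map_comp_apply]) rfl
      refine ⟨(s ≫ res (P m).D ((P m).U a)).left v, (s.left v).2, ?_⟩
      rw [← Scheme.Hom.comp_apply, ← Scheme.Hom.comp_apply, ← Over.comp_left, hcomp, Over.comp_left]
    · rintro _ ⟨t, ht, rfl⟩
      have key : G.map (𝟙 (Over.mk (((P m).U a).ι ≫ (P m).D.hom)) ≫ res (P m).D ((P m).U a)).op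
          (P m).ξ = G.map (𝟙 (Over.mk (((P m).U a).ι ≫ (P m).D.hom))).op
            (G.map (res (P m).D ((P m).U a)).op (P m).ξ) := by
        rw [Category.id_comp, op_id, G.map_id]
        rfl
      obtain ⟨k, hk⟩ := (himg ⟨m, a⟩ (Over.mk (((P m).U a).ι ≫ (P m).D.hom))
        (G.map (res (P m).D ((P m).U a)).op (P m).ξ)).2 ⟨idCov _, fun _ => ⟨𝟙 _, key⟩⟩
      have hcomp : k ≫ j ⟨m, a⟩ = res (P m).D ((P m).U a) ≫ d :=
        (huniv _ _).unique hk (by rw [map_comp_apply, hd])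
      refine ⟨k.left ⟨t, ht⟩, ?_⟩
      rw [← Scheme.Hom.comp_apply, ← Over.comp_left, hcomp]
      rfl
  refine ⟨⟨d.left '' Set.univ, isOpen_image huniv (P m) (hO m) d hd _ isOpen_univ
    (fun _ => Iff.rfl)⟩, (P m).ι, fun a => (j ⟨m, a⟩).left.opensRange, fun a => ?_, fun a => ?_,
    fun x hx => ?_⟩
  · obtain ⟨r, e', he'⟩ := hQ ⟨m, a⟩
    exact (AFProj.isAF_of_immersion r e').of_iso (j ⟨m, a⟩).left.isoOpensRange.symm
  · have hop : IsOpen (d.left '' ((P m).U a : Set _)ᶜ) :=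
      isOpen_image huniv (P m) (hO m) d hd _ (hcl m a).isOpen_compl (fun z => not_congr ((P m).sat a z))
    refine ⟨(d.left '' ((P m).U a : Set _)ᶜ)ᶜ, hop.isClosed_compl, ?_⟩
    change Set.range (j ⟨m, a⟩).left = _
    rw [hrange a]
    ext h
    constructor
    · rintro ⟨t, ht, rfl⟩
      refine ⟨⟨t, trivial, rfl⟩, ?_⟩
      rintro ⟨t', ht', htt⟩
      have h0 : G.map (𝟙 (P m).D : (P m).D ⟶ (P m).D).op (P m).ξ = G.map d.op Z := by
        rw [op_id, G.map_id, hd]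
        rfl
      obtain ⟨r, hr₁, hr₂⟩ := exists_rel_point (P m) Z d d (𝟙 _) (𝟙 _) h0 h0 t' t htt
      apply ht'
      change t' ∈ (P m).U a
      have h1 : (P m).f₁.left r = t' := hr₁
      have h2 : (P m).f₂.left r = t := hr₂
      rw [← h1, (P m).sat, h2]
      exact ht
    · rintro ⟨⟨t, -, rfl⟩, ht⟩
      refine ⟨t, ?_, rfl⟩
      by_contra ht'
      exact ht ⟨t, ht', rfl⟩
  · obtain ⟨V, j', hj', v, s, rfl, hs⟩ := hm x hx
    obtain ⟨a, ha⟩ := (P m).covers (s.left v)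
    refine ⟨a, ?_⟩
    change j'.left v ∈ Set.range (j ⟨m, a⟩).left
    rw [hrange a]
    have hcomp : s ≫ d = j' :=
      (huniv _ (G.map j'.op Z)).unique (by rw [map_comp_apply, hd, hs]) rfl
    refine ⟨s.left v, ha, ?_⟩
    rw [← Scheme.Hom.comp_apply, ← Over.comp_left, hcomp]

end Groth.Agent.Pic13.H932.QuoAF
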