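import Groth.Agent.Pic13.H932.ExtGlue
import Groth.Agent.Pic13.H964.Shf
import Groth.Agent.Pic13.H948.CechUnits
import Groth.Agent.Pic13.H953.FinEt
import Groth.Agent.Pic13.H943.ExistsCF

/-!
# The rule `ext` for `GenGood`, without hypotheses

`isFlfSheaf_of_cf`: for `f` cohomologically flat in degree zero over an affine base, the étale sheafified Picard
functor of `f` is a sheaf for finite locally free surjective morphisms.
-/

set_option autoImplicit false
universe w u

open CategoryTheory CategoryTheory.Limits AlgebraicGeometry Opposite TopologicalSpace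

namespace Groth.Agent.Pic13.H932.RuleExt

open Groth.Agent.Pic13.H964 Groth.Agent.Pic13.H964.Shf Groth.Agent.Pic13.H964.Defs
open Groth.Agent.Pic13.H943 (CF)
open Groth.Agent.Ega3A.PicSheaf (PicSh)

variable {X S : Scheme.{u}} (f : X ⟶ S)

theorem f1a : F1a f := by
  intro E T T' g hg x
  obtain ⟨𝒰, -, h⟩ := H953.FinEt.exists_class g E x
  exact ⟨𝒰, h⟩

theorem f1b : F1b f := by
  intro T T' g hg c c' h
  obtain ⟨𝒰, -, h⟩ := H953.FinEt.exists_eq g c c' h
  exact ⟨𝒰, h⟩

variable {f}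

theorem z1 [IsAffine S] (hf : CF f) : Shf.Z1 f := by
  intro T T' g hg hs z nat coc
  obtain ⟨𝒰, -, h⟩ := H948.CechUnits.Z1 hf g hg z (fun h a b e _ => nat h a b e) coc
  refine ⟨𝒰, fun i => ?_⟩
  obtain ⟨y, hy, hz⟩ := h i
  exact ⟨y, fun h v a e => hy h v a e _, fun v a b e e' => hz v a b e e'⟩

theorem z2 [IsAffine S] (hf : CF f) : Shf.Z2 f := by
  intro T T' g hg hs z nat coc
  obtain ⟨𝒰, -, h⟩ := H948.CechUnits.Z2 hf g hg z (fun h a b c e e' _ _ => nat h a b c e e') coc
  refine ⟨𝒰, fun i => ?_⟩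
  obtain ⟨y, hy, hz⟩ := h i
  exact ⟨y, fun h v a b e e' => hy h v a b e e' _ _, fun v a b c ea eb ec => hz v a b c ea eb ec⟩

/-- **The étale sheafified Picard functor is a sheaf for finite locally free covers.** -/
theorem isFlfSheaf_of_cf [IsAffine S] (hf : CF f) (E : PicSh f) : H955.FinDesc.IsFlfSheaf E.G :=
  isFlfSheaf (f1a f) (f1b f) (z1 hf) (z2 hf) E

/-- **The rule `ext`** for `GenGood`. -/
theorem genGood_ext {X S S' : Scheme.{u}} (f : X ⟶ S) (g : S' ⟶ S) [IsAffine S] [IsNoetherian S]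
    [IsIntegral S] [IsAffine S'] [IsIntegral S'] [IsProper f] [IsFinite g]
    [Flat g] [Surjective g] (h : GenGood (pullback.snd f g)) : GenGood f :=
  ExtGlue.genGood_ext f g (Groth.Agent.Pic13.H943.exists_cf f) (fun _ _ _ _ hh E => isFlfSheaf_of_cf hh E) h

end Groth.Agent.Pic13.H932.RuleExt
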